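import Groth.Agent.AlgFS69.Quot
import Groth.Agent.GE14.DevissageSupport
import Groth.Agent.QCPull72.Annihilator
import Groth.Agent.Coh69.ProperOver

/-! Algebraization of closed formal subschemes with proper support. -/

set_option autoImplicit false
set_option linter.style.haveILetI false
set_option backward.isDefEq.respectTransparency.types false

universe u

open CategoryTheory CategoryTheory.Limits AlgebraicGeometry TopologicalSpace Opposite

noncomputable section

namespace Groth.Agent.AlgFS69

variable (A : Type u) [CommRing A] [IsNoetherianRing A] (I : Ideal A) [IsAdicComplete I A] {X : Scheme.{u}}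

/-- Compatible closed subschemes of the thickenings with proper first term come from a closed subscheme. -/
theorem exists_closed_algebraization (f : X ⟶ Spec (CommRingCat.of A)) [IsSeparated f] [LocallyOfFiniteType f]
    [QuasiCompact f] (Z : ℕ → Scheme.{u}) (z : (n : ℕ) → (Z n ⟶ CohB1.thick f I n))
    (t : (n : ℕ) → (Z n ⟶ Z (n + 1))) (hz : ∀ n, IsClosedImmersion (z n))
    (ht : ∀ n, IsPullback (t n) (z n) (z (n + 1)) (CohB1.thickTrans f I n))
    (hp : IsProper (z 0 ≫ CohB1.thickToBase f I 0)) :
    ∃ (W : Scheme.{u}) (i : W ⟶ X) (w : (n : ℕ) → (Z n ⟶ W)), IsClosedImmersion i ∧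
      IsProper (i ≫ f) ∧ (∀ n, w n = t n ≫ w (n + 1)) ∧ ∀ n, IsPullback (w n) (z n) i (CohB1.thickι f I n) := by
  letI ov : X.Over (Spec (CommRingCat.of A)) := ⟨f⟩
  haveI : IsSeparated (X ↘ Spec (CommRingCat.of A)) := inferInstanceAs (IsSeparated f)
  haveI : LocallyOfFiniteType (X ↘ Spec (CommRingCat.of A)) := inferInstanceAs (LocallyOfFiniteType f)
  haveI : QuasiCompact (X ↘ Spec (CommRingCat.of A)) := inferInstanceAs (QuasiCompact f)
  haveI : IsLocallyNoetherian X := LocallyOfFiniteType.isLocallyNoetherian f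
  haveI : ∀ k, IsClosedImmersion (CohB1.specQuot I k) := fun k =>
    IsClosedImmersion.spec_of_surjective _ Ideal.Quotient.mk_surjective
  haveI hι : ∀ k, IsClosedImmersion (CohB1.thickι f I k) := fun k =>
    MorphismProperty.pullback_fst (P := @IsClosedImmersion) _ _ inferInstance
  haveI := hz
  let j : (n : ℕ) → (Z n ⟶ X) := fun n => z n ≫ CohB1.thickι f I n
  haveI hj : ∀ n, IsClosedImmersion (j n) := fun n => inferInstanceAs (IsClosedImmersion (z n ≫ _))
  have hsq : ∀ n, IsPullback (t n) (z n) (j (n + 1)) (CohB1.thickι f I n) := fun n => by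
    have h := (ht n).paste_vert (isPullback_thickTrans_ι (X := X) (A := A) I n)
    have e : z n ≫ 𝟙 (CohB1.thick f I n) = z n := Category.comp_id (z n)
    exact e ▸ h
  let J : ℕ → X.IdealSheafData := fun n => (j n).ker
  have htj : ∀ n, t n ≫ j (n + 1) = j n := fun n => (hsq n).w
  have hsup : ∀ n, J n = J (n + 1) ⊔ (CohB1.thickι f I n).ker := fun n => by
    refine Eq.trans ?_ (ker_pullback_fst_comp (j (n + 1)) (CohB1.thickι f I n))
    rw [← (hsq n).isoPullback_inv_fst, Category.assoc, Scheme.Hom.ker_comp_of_isIso, htj]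
  have hk : ∀ (n : ℕ) (V : X.affineOpens),
      (CohB1.thickι f I n).ker.ideal V = (I ^ (n + 1)).map (Formal27.gi A X V.1) := fun n V => ideal_ker_thickι I n V
  have hle : ∀ n, J (n + 1) ≤ J n := fun n => by rw [hsup n]; exact le_sup_left
  have hT : ∀ (n : ℕ) (V : X.affineOpens), (I ^ (n + 1)).map (Formal27.gi A X V.1) ≤ (J n).ideal V :=
    fun n V => by
      rw [← hk n V]
      exact Scheme.Hom.le_ker_comp (z n) (CohB1.thickι f I n) V
  have hG := isCohFormal_quotSys J hle I hT fun n V => by
    rw [hsup n, ← hk n V]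
    exact le_of_eq rfl
  haveI : IsProper (j 0 ≫ f) := by
    rw [show j 0 ≫ f = (z 0 ≫ CohB1.thickToBase f I 0) ≫ CohB1.specQuot I 0 from by
      rw [Category.assoc, Category.assoc]; exact congrArg (z 0 ≫ ·) pullback.condition]
    haveI := hp
    infer_instance
  have hr0 : ClSub.IsProperOver f (Set.range (j 0)) :=
    (Coh69.PO.iff_of_range (j 0) rfl).2 inferInstance
  haveI : ∀ n, (ClSub.quotMod (J n)).IsFiniteType := fun n => (isCoh_quotMod (J n)).2
  have hs : ClSub.IsProperOver f (CohB1.support ((quotSys J hle).obj (op 0))) := by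
    refine Coh69.PO.mono hr0 (QC70.isClosed_support (ClSub.quotMod (J 0))) ?_
    refine GE14.support_pushforward_subset _ _ hr0.1 fun q _ => ?_
    have h : Set.range (J 0).subschemeι = Set.range (j 0) := by
      rw [Scheme.IdealSheafData.range_subschemeι, Scheme.Hom.support_ker,
        (j 0).isClosedEmbedding.isClosed_range.closure_eq]
    exact h.le ⟨q, rfl⟩
  obtain ⟨M, hM, hMs, ⟨e⟩⟩ := GE14.exists_completion_of_proper_support X hG hs
  haveI := hM.1
  haveI := hM.2
  let K := QCPull72.annSheaf M
  have hKJ : ∀ n, K ⊔ (CohB1.thickι f I n).ker = J n := fun n => by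
    ext V : 2
    rw [Scheme.IdealSheafData.ideal_sup, Pi.sup_apply, hk n V]
    let en : Formal.modPow I (n + 1) M ≅ ClSub.quotMod (J n) := e.app (op n)
    let p : Γ(M, V.1) →ₗ[Γ(X, V.1)] Γ(ClSub.quotMod (J n), V.1) :=
      { toFun := fun x => en.hom.app V.1 ((Formal.modPowπ I (n + 1) M).app V.1 x)
        map_add' := fun a b => by rw [map_add, map_add]
        map_smul' := fun r a =>
          (congrArg (en.hom.app V.1) (Scheme.Modules.Hom.app_smul _ r a)).trans (Scheme.Modules.Hom.app_smul _ r _) }
    let q : Γ(X, V.1) →ₗ[Γ(X, V.1)] Γ(ClSub.quotMod (J n), V.1) :=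
      { toFun := fun a => (ClSub.toSubscheme (J n)).app V.1 (QC70.toUnit a)
        map_add' := fun a b => map_add ((ClSub.toSubscheme (J n)).app V.1).hom _ _
        map_smul' := fun r a => Scheme.Modules.Hom.app_smul (ClSub.toSubscheme (J n)) r (QC70.toUnit a) }
    haveI : Module.Finite Γ(X, V.1) Γ(M, V.1) := QC70.finite_sections_of_isFiniteType M V.2
    have hinj : Function.Injective (en.hom.app V.1) := QC70.app_injective_of_mono _ _
    have hsurj : Function.Surjective (en.hom.app V.1) := fun y => ⟨en.inv.app V.1 y, by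
      rw [← ConcreteCategory.comp_apply, ← Scheme.Modules.Hom.comp_app, en.inv_hom_id]; rfl⟩
    obtain ⟨h1, h2⟩ := mem_annihilator_sup (I.map (Formal27.gi A X V.1)) ((J n).ideal V) n p q
      (toSub_app_surjective (J n) V) (hsurj.comp (Formal27.modPowπ_app_surjective I (n + 1) V.2))
      (fun x => by
        rw [← Ideal.map_pow]
        refine Iff.trans ⟨fun h => hinj ?_, fun h => ?_⟩ (Formal27.modPowπ_app_eq_zero_iff V.2 x)
        · rw [map_zero]; exact h
        · exact (congrArg (en.hom.app V.1) h).trans (map_zero _))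
      (toSub_app_eq_zero_iff (J n) V)
    rw [← Ideal.map_pow] at h1
    exact le_antisymm (sup_le h2 (hT n V)) h1
  let ι := K.subschemeι
  have hker : ∀ n, ι.ker ≤ (j n).ker := fun n => by
    rw [Scheme.IdealSheafData.ker_subschemeι]
    exact le_sup_left.trans (hKJ n).le
  let w : (n : ℕ) → (Z n ⟶ K.subscheme) := fun n => IsClosedImmersion.lift ι (j n) (hker n)
  have hw : ∀ n, w n ≫ ι = j n := fun n => IsClosedImmersion.lift_fac _ _ _
  have hrange : Set.range ι = CohB1.support M := by
    rw [Scheme.IdealSheafData.range_subschemeι]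
    exact QCPull72.support_annSheaf M
  refine ⟨K.subscheme, ι, w, inferInstance, (Coh69.PO.iff_of_range ι hrange).1 hMs, fun n => ?_, fun n => ?_⟩
  · rw [← cancel_mono ι, Category.assoc, hw, hw, htj]
  · let L := pullback.lift (w n) (z n) (hw n)
    haveI : IsIso L := by
      refine IsClosedImmersion.isIso_of_ker_eq (j n)
        (pullback.fst ι (CohB1.thickι f I n) ≫ ι) L ?_ ?_
      · rw [← Category.assoc, pullback.lift_fst, hw]
      · rw [ker_pullback_fst_comp, Scheme.IdealSheafData.ker_subschemeι]
        exact (hKJ n).symm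
    exact IsPullback.of_iso_pullback ⟨hw n⟩ (asIso L) (pullback.lift_fst _ _ _) (pullback.lift_snd _ _ _)

end Groth.Agent.AlgFS69

end
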