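import Groth.Agent.AlgFS69.Embed
import Groth.Agent.AlgFS69.Closed
import Groth.Agent.Coh69.AmpleNhd
import Groth.Agent.An92.Ample.Inverse
import Groth.Agent.Approx60.Segre
import Groth.Agent.EGA73.AmpleBaseImmersion

/-! Algebraization of formal schemes carrying an ample invertible module. -/

set_option autoImplicit false
set_option linter.style.haveILetI false
set_option linter.unusedSectionVars false
set_option backward.isDefEq.respectTransparency.types false

universe u

open CategoryTheory CategoryTheory.Limits AlgebraicGeometry TopologicalSpace Opposite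

noncomputable section

namespace Groth.Agent.AlgFS69

/-- An invertible module ample on the closed fibre is ample, over a complete base. -/
theorem isAmple_of_isAmple_closed {A : Type u} [CommRing A] [IsNoetherianRing A] (I : Ideal A) [IsAdicComplete I A]
    {W X₀ : Scheme.{u}} (g : W ⟶ Spec (CommRingCat.of A)) [IsProper g] (M : W.Modules) (hM : PicF.IsInvertible M)
    {p : X₀ ⟶ Spec (CommRingCat.of (A ⧸ I ^ (0 + 1)))} (e : X₀ ⟶ W) (he : IsPullback e p g (CohB1.specQuot I 0))
    (ha : CohB1.IsAmple ((Scheme.Modules.pullback e).obj M)) : CohB1.IsAmple M := by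
  haveI : IsNoetherianRing (CommRingCat.of A) := inferInstanceAs (IsNoetherianRing A)
  haveI : AlgebraicGeometry.IsNoetherian (Spec (CommRingCat.of A)) := inferInstance
  refine (Amp73.isRelAmple_iff_isAmple g).1 (Amp73.isRelAmple_of_cover g fun y => ?_)
  let T : (Spec (CommRingCat.of A)).Opens :=
    ⨆ V : {V : (Spec (CommRingCat.of A)).affineOpens // CohB1.IsAmple (M.restrict (g ⁻¹ᵁ V.1).ι)}, V.1.1
  suffices hT : T = ⊤ by
    obtain ⟨V, hV⟩ := Opens.mem_iSup.1 (hT.ge (Opens.mem_top y))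
    exact ⟨V.1, hV, V.2⟩
  refine eq_top_of_zeroLocus_le (A := A) (I := I) (𝟙 (Spec (CommRingCat.of A))) T fun x hx => ?_
  let Y := Spec (CommRingCat.of A)
  have hample : CohB1.IsAmple ((Scheme.Modules.pullback (g.fiberι x)).obj M) := by
    have hfac : ∃ q : Spec (Y.residueField x) ⟶ Spec (CommRingCat.of (A ⧸ I ^ (0 + 1))),
        q ≫ CohB1.specQuot I 0 = Y.fromSpecResidueField x := by
      let φ := Spec.preimage (Y.fromSpecResidueField x)
      have hI : ∀ a ∈ I ^ (0 + 1), φ.hom a = 0 := fun a ha => by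
        by_contra hne
        let z : PrimeSpectrum (Y.residueField x) := ⟨⊥, Ideal.isPrime_bot⟩
        have hz : Spec.map φ z = x := by
          rw [Spec.map_preimage]
          have hm : Y.fromSpecResidueField x z ∈ Set.range (Y.fromSpecResidueField x) := Set.mem_range_self z
          rw [Scheme.range_fromSpecResidueField] at hm
          exact hm
        have hxa : a ∈ (x : PrimeSpectrum A).asIdeal := hx (by rwa [zero_add, pow_one] at ha)
        rw [← hz] at hxa
        exact hne (Ideal.mem_bot.1 hxa)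
      refine ⟨Spec.map (CommRingCat.ofHom (Ideal.Quotient.lift _ φ.hom hI)), ?_⟩
      rw [CohB1.specQuot, ← Spec.map_comp]
      conv_rhs => rw [← Spec.map_preimage (Y.fromSpecResidueField x)]
      rfl
    obtain ⟨q, hq⟩ := hfac
    let h : g.fiber x ⟶ X₀ := he.lift (g.fiberι x) (g.fiberToSpecResidueField x ≫ q)
      (by rw [Category.assoc, hq]; exact pullback.condition)
    have hh : h ≫ e = g.fiberι x := he.lift_fst _ _ _
    haveI : QuasiCompact (g.fiberToSpecResidueField x) := inferInstanceAs (QuasiCompact (pullback.snd _ _))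
    haveI : CompactSpace (g.fiber x) := QuasiCompact.compactSpace_of_compactSpace (g.fiberToSpecResidueField x)
    haveI := isClosedImmersion_of_isPullback_specQuot I he
    have hemb : Topology.IsEmbedding h.base := by
      refine Topology.IsEmbedding.of_comp h.continuous e.continuous ?_
      have := (g.fiberι x).isEmbedding
      rw [← hh] at this
      exact this
    exact Amp73.isAmple_of_iso ((Scheme.Modules.pullbackComp h e).app M ≪≫
      (Scheme.Modules.pullbackCongr hh).app M) (Amp73.isAmple_pullback_of_isEmbedding h hemb ha)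
  obtain ⟨V, hxV, hV⟩ := Coh69.AmpleNhd.exists_nhd g M hM x hample
  obtain ⟨O, hO, hxO, hOV⟩ := exists_isAffineOpen_mem_and_subset (x := x) (U := V) hxV
  exact Opens.mem_iSup.2 ⟨⟨⟨O, hO⟩, hV O hOV hO⟩, hxO⟩
where
  isClosedImmersion_of_isPullback_specQuot {A : Type u} [CommRing A] (I : Ideal A) {W X₀ : Scheme.{u}}
      {g : W ⟶ Spec (CommRingCat.of A)} {p : X₀ ⟶ Spec (CommRingCat.of (A ⧸ I ^ (0 + 1)))} {e : X₀ ⟶ W}
      (he : IsPullback e p g (CohB1.specQuot I 0)) : IsClosedImmersion e :=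
    MorphismProperty.of_isPullback (P := @IsClosedImmersion) he.flip
      (IsClosedImmersion.spec_of_surjective _ Ideal.Quotient.mk_surjective)

namespace ThickSys

variable {A : Type u} [CommRing A] [IsNoetherianRing A] {I : Ideal A} (S : ThickSys I)

/-- Very ample powers give closed immersions into projective space. -/
theorem exists_projSpace {Z : Scheme.{u}} (f : Z ⟶ Spec (CommRingCat.of A)) [IsProper f] (M : Z.Modules)
    (h : RelAmple.IsRelVeryAmplePn f M) : ∃ (m : ℕ) (ι : Z ⟶ CohB1.ProjSpace m A), IsClosedImmersion ι ∧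
      ι ≫ CohB1.ProjSpace.toSpec m A = f ∧
      Nonempty ((Scheme.Modules.pullback ι).obj (Twist.twistProjSpace m A 1) ≅ M) := by
  obtain ⟨N, j, hj, hjf, ⟨t⟩⟩ := h
  obtain ⟨e, he, htw⟩ := RB70.exists_projSpaceOver_iso A N
  haveI := hj
  haveI : IsProper (j ≫ CohB1.ProjSpaceOver.toBase N (Spec (CommRingCat.of A))) := by
    rw [show j ≫ CohB1.ProjSpaceOver.toBase N _ = f from hjf]
    infer_instance
  haveI := Approx60.Segre.isProper_toBase N (Spec (CommRingCat.of A))
  haveI : IsProper j := IsProper.of_comp j (CohB1.ProjSpaceOver.toBase N _)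
  haveI : IsClosedImmersion j := EGA73.AmpleBaseImmersion.isClosedImmersion_of_isImmersion_of_isProper j
  obtain ⟨w⟩ := htw 1
  exact ⟨N, j ≫ e.hom, inferInstance, by rw [Category.assoc, he]; exact hjf,
    ⟨((Scheme.Modules.pullbackComp j e.hom).app _).symm ≪≫ (Scheme.Modules.pullback j).mapIso w ≪≫ t.symm⟩⟩

variable [IsAdicComplete I A]

/-- Algebraization of a formal scheme with an ample invertible module. -/
theorem exists_ample_algebraization (L : (n : ℕ) → (S.X n).Modules) (hL : ∀ n, PicF.IsInvertible (L n))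
    (φ : ∀ n, (Scheme.Modules.pullback (S.i n)).obj (L (n + 1)) ≅ L n) (ha : CohB1.IsAmple (L 0)) :
    ∃ (Y : Scheme.{u}) (g : Y ⟶ Spec (CommRingCat.of A)) (M : Y.Modules) (e : (n : ℕ) → (S.X n ⟶ Y)),
      IsProper g ∧ PicF.IsInvertible M ∧ CohB1.IsAmple M ∧
      (∀ n, IsPullback (e n) (S.p n) g (CohB1.specQuot I n)) ∧ (∀ n, e n = S.i n ≫ e (n + 1)) ∧
      ∀ n, Nonempty ((Scheme.Modules.pullback (e n)).obj M ≅ L n) := by
  haveI := S.isProper_g_zero
  obtain ⟨d₀, hd₀⟩ := S.eventually_lift L hL φ ha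
  obtain ⟨d₁, -, hd₁⟩ := S9710.result (S.g 0) (L 0) ha
  let d := max d₀ d₁
  let ψ : ∀ k n, (Scheme.Modules.pullback (S.i n)).obj (CohB1.tensorPow (L (n + 1)) k) ≅ CohB1.tensorPow (L n) k :=
    fun k n => Amp73.pullPowIso (S.i n) (hL (n + 1)) k ≪≫ Amp73.powIso (φ n) k
  obtain ⟨m₁, ι₁, hι₁, hι₁f, ⟨τ₁⟩⟩ := exists_projSpace (S.g 0) _ (hd₁ d (le_max_right _ _))
  obtain ⟨m₂, ι₂, hι₂, hι₂f, ⟨τ₂⟩⟩ := exists_projSpace (S.g 0) _ (hd₁ (d + 1) ((le_max_right _ _).trans (Nat.le_succ d)))
  obtain ⟨r₁, hr₁c, hr₁, hr₁i, hr₁L⟩ := S.exists_embedding (fun n => CohB1.tensorPow (L n) d)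
    (fun n => EGA73.isInvertible_tensorPow (hL n) d) (ψ d) (hd₀ d (le_max_left _ _)) m₁ ι₁ hι₁f τ₁
  obtain ⟨r₂, hr₂c, hr₂, hr₂i, hr₂L⟩ := S.exists_embedding (fun n => CohB1.tensorPow (L n) (d + 1))
    (fun n => EGA73.isInvertible_tensorPow (hL n) (d + 1)) (ψ (d + 1))
    (hd₀ (d + 1) ((le_max_left _ _).trans (Nat.le_succ d))) m₂ ι₂ hι₂f τ₂
  let P₁ := CohB1.ProjSpace m₁ A
  let P₂ := CohB1.ProjSpace m₂ A
  let f₁ := CohB1.ProjSpace.toSpec m₁ A
  let f₂ := CohB1.ProjSpace.toSpec m₂ A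
  haveI : IsProper f₁ := isProper_toSpec m₁ A
  haveI : IsProper f₂ := isProper_toSpec m₂ A
  let f : pullback f₁ f₂ ⟶ Spec (CommRingCat.of A) := pullback.fst f₁ f₂ ≫ f₁
  let z₀ : (n : ℕ) → (S.X n ⟶ pullback f₁ f₂) := fun n =>
    pullback.lift (r₁ n) (r₂ n) ((hr₁ n).trans (hr₂ n).symm)
  have hz₀f : ∀ n, z₀ n ≫ f = S.p n ≫ CohB1.specQuot I n := fun n => by
    rw [pullback.lift_fst_assoc]; exact hr₁ n
  let z : (n : ℕ) → (S.X n ⟶ CohB1.thick f I n) := fun n => pullback.lift (z₀ n) (S.p n) (hz₀f n)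
  have hzι : ∀ n, z n ≫ CohB1.thickι f I n = z₀ n := fun n => pullback.lift_fst _ _ _
  have hzp : ∀ n, z n ≫ CohB1.thickToBase f I n = S.p n := fun n => pullback.lift_snd _ _ _
  have hzc : ∀ n, IsClosedImmersion (z n) := fun n => by
    haveI := isClosedImmersion_specQuot (I := I) n
    haveI : IsClosedImmersion (CohB1.thickι f I n) :=
      MorphismProperty.pullback_fst (P := @IsClosedImmersion) _ _ inferInstance
    haveI : IsSeparated (pullback.fst f₁ f₂) :=
      MorphismProperty.pullback_fst (P := @IsSeparated) _ _ inferInstance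
    haveI : IsClosedImmersion (z n ≫ CohB1.thickι f I n ≫ pullback.fst f₁ f₂) := by
      rw [← Category.assoc, hzι, pullback.lift_fst]; exact hr₁c n
    exact IsClosedImmersion.of_comp (z n) (CohB1.thickι f I n ≫ pullback.fst f₁ f₂)
  have hzi : ∀ n, S.i n ≫ z₀ (n + 1) = z₀ n := fun n =>
    pullback.hom_ext (by rw [Category.assoc, pullback.lift_fst, pullback.lift_fst, hr₁i])
      (by rw [Category.assoc, pullback.lift_snd, pullback.lift_snd, hr₂i])
  have ht : ∀ n, IsPullback (S.i n) (z n) (z (n + 1)) (CohB1.thickTrans f I n) := fun n => by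
    refine IsPullback.of_bot ?_ ?_ (isPullback_thickTrans (I := I) f n)
    · rw [hzp, hzp]
      exact S.cart n
    · refine thick_hom_ext ?_ ?_
      · rw [Category.assoc, Category.assoc, hzι, hzi,
          show CohB1.thickTrans f I n ≫ CohB1.thickι f I (n + 1) = CohB1.thickι f I n from
            (pullback.lift_fst _ _ _).trans (Category.comp_id _), hzι]
      · rw [Category.assoc, Category.assoc, hzp, (S.cart n).w,
          show CohB1.thickTrans f I n ≫ CohB1.thickToBase f I (n + 1) =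
            CohB1.thickToBase f I n ≫ CohB1.specQuotTrans I n from pullback.lift_snd _ _ _, ← Category.assoc, hzp]
  obtain ⟨W, iW, w, hiW, hiWf, hwi, hw⟩ := exists_closed_algebraization A I f S.X z S.i hzc ht (by
    rw [hzp]; exact S.proper)
  have he : ∀ n, IsPullback (w n) (S.p n) (iW ≫ f) (CohB1.specQuot I n) := fun n => by
    have h := (hw n).paste_vert (IsPullback.of_hasPullback f (CohB1.specQuot I n))
    rwa [show z n ≫ pullback.snd f (CohB1.specQuot I n) = S.p n from pullback.lift_snd _ _ _] at h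
  have hO : ∀ m, PicF.IsInvertible (Twist.twistProjSpace m A 1) := fun m =>
    EGA73.isInvertible_twist (EGA73.ProjUniv.irrelevant_eq_span_one
      (EGA73.PolySym.linForm_mem m A) (EGA73.PolySym.isSymmetricAlgebra_linForm m A)) 1
  obtain ⟨N, hN, ⟨εN⟩⟩ := An92.InvMod.exists_inverse
    (Amp73.isInvertible_pullback (iW ≫ pullback.fst f₁ f₂) (hO m₁))
  let O₂ := (Scheme.Modules.pullback (iW ≫ pullback.snd f₁ f₂)).obj (Twist.twistProjSpace m₂ A 1)
  have hO₂ : PicF.IsInvertible O₂ := Amp73.isInvertible_pullback _ (hO m₂)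
  let M := CohB1.tensorMod O₂ N
  have hM : PicF.IsInvertible M := EGA73.isInvertible_tensorMod hO₂ hN
  have hiso : ∀ n, Nonempty ((Scheme.Modules.pullback (w n)).obj M ≅ L n) := fun n => by
    obtain ⟨a₁⟩ := hr₁L n
    obtain ⟨a₂⟩ := hr₂L n
    let E := Scheme.Modules.pullback (w n)
    have h₁ : w n ≫ iW ≫ pullback.fst f₁ f₂ = r₁ n := by
      rw [← Category.assoc, (hw n).w, Category.assoc, ← Category.assoc (z n), hzι, pullback.lift_fst]
    have h₂ : w n ≫ iW ≫ pullback.snd f₁ f₂ = r₂ n := by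
      rw [← Category.assoc, (hw n).w, Category.assoc, ← Category.assoc (z n), hzι, pullback.lift_snd]
    let b₂ : E.obj O₂ ≅ CohB1.tensorMod (CohB1.tensorPow (L n) d) (L n) :=
      (Scheme.Modules.pullbackComp (w n) _).app _ ≪≫ (Scheme.Modules.pullbackCongr h₂).app _ ≪≫ a₂
    let b₁ := (Scheme.Modules.pullbackComp (w n) (iW ≫ pullback.fst f₁ f₂)).app (Twist.twistProjSpace m₁ A 1) ≪≫
      (Scheme.Modules.pullbackCongr h₁).app _ ≪≫ a₁
    let c : CohB1.tensorMod (E.obj N) (CohB1.tensorPow (L n) d) ≅ Coh.structureModule (S.X n) :=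
      EGA73.tensIso (Iso.refl _) b₁.symm ≪≫
        (@asIso _ _ _ _ (Amp73.pullTensHom (w n) N _)
          (Amp73.isIso_pullTensHom (w n) hN (Amp73.isInvertible_pullback _ (hO m₁)))).symm ≪≫
        E.mapIso εN ≪≫ PicLoc.pullbackStructureIso (w n)
    exact ⟨@asIso _ _ _ _ (Amp73.pullTensHom (w n) O₂ N) (Amp73.isIso_pullTensHom (w n) hO₂ hN) ≪≫
      EGA73.tensIso b₂ (Iso.refl _) ≪≫ EGA73.tensIso (EGA73.tensComm _ _) (Iso.refl _) ≪≫
      EGA73.tensAssoc' _ _ _ ≪≫
      EGA73.tensIso (Iso.refl (L n)) (EGA73.tensComm _ _ ≪≫ c) ≪≫ EGA73.tensUnitRight (L n)⟩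
  haveI := hiWf
  refine ⟨W, iW ≫ f, M, w, hiWf, hM, ?_, he, hwi, hiso⟩
  obtain ⟨t⟩ := hiso 0
  exact isAmple_of_isAmple_closed I (iW ≫ f) M hM (w 0) (he 0) (Amp73.isAmple_of_iso t.symm ha)
where
  isProper_toSpec (m : ℕ) (A : Type u) [CommRing A] : IsProper (CohB1.ProjSpace.toSpec m A) := by
    obtain ⟨e, he, -⟩ := RB70.exists_projSpaceOver_iso A m
    haveI := Approx60.Segre.isProper_toBase m (Spec (CommRingCat.of A))
    rw [show CohB1.ProjSpace.toSpec m A = e.inv ≫ CohB1.ProjSpaceOver.toBase m _ from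
      (by rw [← he, Iso.inv_hom_id_assoc])]
    infer_instance

end ThickSys

end Groth.Agent.AlgFS69
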