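import Groth.Agent.AlgFS69.SecLift
import Groth.Agent.EGA73.ImmersionPn
import Groth.Agent.Curves2.AffineNil
import Groth.Agent.Csa25.SecTransport
import Groth.Agent.GE14.LocalPush
import Groth.Agent.S3572
import Groth.Agent.S3573
import Groth.Agent.EGA73.AffineSections

/-! Compatible closed immersions of the thickenings into a projective space. -/

set_option autoImplicit false
set_option linter.style.haveILetI false
set_option linter.unusedSectionVars false
set_option backward.isDefEq.respectTransparency.types false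

universe u

open CategoryTheory CategoryTheory.Limits AlgebraicGeometry TopologicalSpace Opposite

noncomputable section

namespace Groth.Agent.AlgFS69

open Amp73 Var76.LineBundle Var76.ZeroScheme

theorem hom_eq_ofSection {X : Scheme.{u}} {L : X.Modules} (s : Coh.structureModule X ⟶ L) :
    s = Var76.Frames.ofSection L (val L s ⊤) := by
  apply L.unitHomEquiv.injective
  refine Subtype.ext (funext fun U => ?_)
  show val L s U.unop = val L (Var76.Frames.ofSection L (val L s ⊤)) U.unop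
  rw [Var76.Frames.val_ofSection]
  exact (res_val L s (le_top : U.unop ≤ ⊤)).symm

theorem pullHom_ofSection {X Y : Scheme.{u}} (f : X ⟶ Y) (L : Y.Modules) (g : Γ(L, ⊤)) :
    pullHom f (Var76.Frames.ofSection L g) =
      Var76.Frames.ofSection ((Scheme.Modules.pullback f).obj L) (pullS f L ⊤ g) := by
  rw [hom_eq_ofSection (pullHom f (Var76.Frames.ofSection L g))]
  refine congrArg (Var76.Frames.ofSection _) ((val_pullHom f _ ⊤).trans ?_)
  rw [Var76.Frames.val_ofSection, res_self]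

theorem ofSection_comp {X : Scheme.{u}} {L N : X.Modules} (φ : L ⟶ N) (g : Γ(L, ⊤)) :
    Var76.Frames.ofSection L g ≫ φ = Var76.Frames.ofSection N (φ.app ⊤ g) := by
  rw [hom_eq_ofSection (Var76.Frames.ofSection L g ≫ φ)]
  refine congrArg (Var76.Frames.ofSection _) ?_
  show φ.app ⊤ (val L (Var76.Frames.ofSection L g) ⊤) = _
  rw [Var76.Frames.val_ofSection, res_self]

theorem genLocus_pullback_sec {X Y : Scheme.{u}} (f : X ⟶ Y) {L : Y.Modules} (hL : PicF.IsInvertible L)
    {N : X.Modules} (ψ : (Scheme.Modules.pullback f).obj L ≅ N) (g : Γ(L, ⊤)) :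
    CohB1.genLocus N (Var76.Frames.ofSection N (ψ.hom.app ⊤ (pullS f L ⊤ g))) =
      f ⁻¹ᵁ CohB1.genLocus L (Var76.Frames.ofSection L g) := by
  rw [← ofSection_comp, genLocus_comp_iso, ← pullHom_ofSection, genLocus_pullHom f hL]

/-- A morphism from a nilpotent thickening is a closed immersion if it is one on the reduction. -/
theorem isClosedImmersion_of_thickening {A : Type u} [CommRing A] {Z X P : Scheme.{u}}
    [X.Over (Spec (CommRingCat.of A))] [P.Over (Spec (CommRingCat.of A))]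
    (j : Z ⟶ X) [IsClosedImmersion j] [Surjective j] [IsLocallyNoetherian X] (I : Ideal A)
    (hker : ∀ V : X.affineOpens, j.ker.ideal V = I.map (Formal27.gi A X V.1))
    (r : X ⟶ P) (hr : r ≫ (P ↘ Spec (CommRingCat.of A)) = X ↘ Spec (CommRingCat.of A))
    (h : IsClosedImmersion (j ≫ r)) : IsClosedImmersion r := by
  refine IsZariskiLocalAtTarget.of_iSup_eq_top (P := @IsClosedImmersion) (fun O : P.affineOpens => O.1)
    (iSup_affineOpens_eq_top P) fun O => ?_
  let V : X.Opens := r ⁻¹ᵁ O.1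
  have hV : IsAffineOpen V := by
    haveI : IsAffine (j ⁻¹ᵁ V).toScheme := O.2.preimage (j ≫ r)
    haveI : Surjective (j ∣_ V) := MorphismProperty.of_isPullback (P := @Surjective) (isPullback_morphismRestrict j V).flip ‹_›
    exact Curves2.isAffine_of_surjective_closedImmersion (j ∣_ V)
  refine EGA73.ImmersionPn.isClosedImmersion_restrict r O.2 hV ?_
  let R : Subring Γ(X, V) := (r.app O.1).hom.range
  have hmod : ∀ x : Γ(X, V), ∃ a ∈ R, x - a ∈ j.ker.ideal ⟨V, hV⟩ := fun x => by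
    obtain ⟨c, hc⟩ := (j ≫ r).app_surjective O.1 O.2 (j.app V x)
    refine ⟨r.app O.1 c, ⟨c, rfl⟩, ?_⟩
    rw [Scheme.Hom.ker_apply, RingHom.mem_ker, map_sub, sub_eq_zero]
    exact hc.symm
  have hgi : ∀ a : A, Formal27.gi A X V a ∈ R := fun a => by
    refine ⟨Formal27.gi A P O.1 a, ?_⟩
    show (r.app O.1).hom ((P.presheaf.map (homOfLE le_top).op).hom (Coh.toGlobal (P ↘ _) a)) =
      (X.presheaf.map (homOfLE le_top).op).hom (Coh.toGlobal (X ↘ _) a)
    rw [← hr]
    simp only [Coh.toGlobal, Scheme.Hom.comp_appTop, RingHom.coe_comp, Function.comp_apply, CommRingCat.hom_comp]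
    exact congr(($(r.naturality (homOfLE (le_top : O.1 ≤ ⊤)).op)).hom
      ((P ↘ Spec (CommRingCat.of A)).appTop ((Scheme.ΓSpecIso _).inv a)))
  obtain ⟨k, hk⟩ := Curves2.isNilpotent_ker j ⟨V, hV⟩
  have step : ∀ n : ℕ, ∀ x : Γ(X, V), ∃ a ∈ R, x - a ∈ (j.ker.ideal ⟨V, hV⟩) ^ n := by
    intro n
    induction n with
    | zero => exact fun x => ⟨0, zero_mem _, by simp⟩
    | succ n ih =>
      intro x
      obtain ⟨a, ha, hxa⟩ := ih x
      suffices H : ∀ z ∈ (j.ker.ideal ⟨V, hV⟩) ^ n, ∃ b ∈ R, z - b ∈ (j.ker.ideal ⟨V, hV⟩) ^ (n + 1) by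
        obtain ⟨b, hb, hzb⟩ := H _ hxa
        exact ⟨a + b, add_mem ha hb, by rwa [← sub_sub]⟩
      rw [hker, ← Ideal.map_pow]
      intro z hz
      refine Submodule.span_induction
        (p := fun z _ => ∃ b ∈ R, z - b ∈ (I.map (Formal27.gi A X V)) ^ (n + 1)) ?_ ?_ ?_ ?_ hz
      · rintro _ ⟨c, -, rfl⟩
        exact ⟨_, hgi c, by simp⟩
      · exact ⟨0, zero_mem _, by simp⟩
      · rintro p q - - ⟨b, hb, hp⟩ ⟨c, hc, hq⟩
        exact ⟨b + c, add_mem hb hc, by rw [add_sub_add_comm]; exact add_mem hp hq⟩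
      · rintro c p hp ⟨b, hb, hpb⟩
        obtain ⟨c', hc', hcc⟩ := hmod c
        refine ⟨c' * b, mul_mem hc' hb, ?_⟩
        rw [smul_eq_mul, show c * p - c' * b = (c - c') * p + c' * (p - b) from by ring]
        refine add_mem ?_ (Ideal.mul_mem_left _ _ hpb)
        rw [pow_succ', ← Ideal.map_pow]
        exact Ideal.mul_mem_mul (hker ⟨V, hV⟩ ▸ hcc) hp
  intro x
  obtain ⟨a, ⟨c, hc⟩, hxa⟩ := step k x
  rw [hk] at hxa
  exact ⟨c, hc.trans (sub_eq_zero.1 (Ideal.mem_bot.1 hxa)).symm⟩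

namespace ThickSys

variable {A : Type u} [CommRing A] [IsNoetherianRing A] {I : Ideal A} (S : ThickSys I)

theorem generatedBy_succ {n : ℕ} {M : (S.X (n + 1)).Modules} (hM : PicF.IsInvertible M)
    {N : (S.X n).Modules} (hN : PicF.IsInvertible N) (ψ : (Scheme.Modules.pullback (S.i n)).obj M ≅ N)
    {J : Type*} (t : J → Γ(M, ⊤)) (s : J → Γ(N, ⊤)) (hts : ∀ k, ψ.hom.app ⊤ (pullS (S.i n) M ⊤ (t k)) = s k)
    (hs : ProjUP.GeneratedBy N s) : ProjUP.GeneratedBy M t := by
  refine EGA73.ImmersionPn.generatedBy_of_genLocus M t fun x => ?_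
  obtain ⟨y, rfl⟩ := (S.surjective_i n).surj x
  obtain ⟨k, hk⟩ := EGA73.ProjUniv.exists_mem_genLocus N hN s hs y
  rw [← hts k, genLocus_pullback_sec (S.i n) hM] at hk
  exact ⟨k, hk⟩

/-- Compatible closed immersions into a projective space. -/
theorem exists_embedding (M : (n : ℕ) → (S.X n).Modules) (hM : ∀ n, PicF.IsInvertible (M n))
    (ψ : ∀ n, (Scheme.Modules.pullback (S.i n)).obj (M (n + 1)) ≅ M n)
    (hlift : ∀ n, Function.Surjective (fun m : Γ(M (n + 1), ⊤) =>
      (show Γ((Scheme.Modules.pullback (S.i n)).obj (M (n + 1)), ⊤) from pullS (S.i n) (M (n + 1)) ⊤ m)))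
    (m : ℕ) (ι : S.X 0 ⟶ CohB1.ProjSpace m A) [IsClosedImmersion ι]
    (hι : ι ≫ CohB1.ProjSpace.toSpec m A = S.g 0)
    (τ₀ : (Scheme.Modules.pullback ι).obj (Twist.twistProjSpace m A 1) ≅ M 0) :
    ∃ r : (n : ℕ) → (S.X n ⟶ CohB1.ProjSpace m A), (∀ n, IsClosedImmersion (r n)) ∧
      (∀ n, r n ≫ CohB1.ProjSpace.toSpec m A = S.g n) ∧ (∀ n, S.i n ≫ r (n + 1) = r n) ∧
      ∀ n, Nonempty ((Scheme.Modules.pullback (r n)).obj (Twist.twistProjSpace m A 1) ≅ M n) := by
  classical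
  have hstep : ∀ (n : ℕ) (s : Fin (m + 1) → Γ(M n, ⊤)), ∃ t : Fin (m + 1) → Γ(M (n + 1), ⊤),
      ∀ k, (ψ n).hom.app ⊤ (pullS (S.i n) (M (n + 1)) ⊤ (t k)) = s k := fun n s => by
    choose z hz using fun k => (ConcreteCategory.bijective_of_isIso ((ψ n).hom.app ⊤)).2 (s k)
    choose t ht using fun k => hlift n (z k)
    exact ⟨t, fun k => (congrArg ((ψ n).hom.app ⊤) (ht k)).trans (hz k)⟩
  choose next hnext using hstep
  let s : (n : ℕ) → Fin (m + 1) → Γ(M n, ⊤) := fun n => Nat.rec (motive := fun n => Fin (m + 1) → Γ(M n, ⊤))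
    (fun k => τ₀.hom.app ⊤ (ProjUP.pullSec ι (Twist.twistProjSpace m A 1) (ProjUP.coord m A k)))
    (fun n t => next n t) n
  have hs : ∀ n k, (ψ n).hom.app ⊤ (pullS (S.i n) (M (n + 1)) ⊤ (s (n + 1) k)) = s n k := fun n => hnext n (s n)
  have hgen : ∀ n, ProjUP.GeneratedBy (M n) (s n) := fun n => by
    induction n with
    | zero =>
      refine EGA73.ImmersionPn.generatedBy_of_genLocus (M 0) _ fun x => ?_
      obtain ⟨k, hk⟩ := EGA73.ProjUniv.exists_mem_genLocus _ (EGA73.AffineSections.isInvertible_pullback_coord m ι)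
        _ (EGA73.AffineSections.generatedBy_pullSec m ι) x
      refine ⟨k, ?_⟩
      show x ∈ CohB1.genLocus (M 0) (Var76.Frames.ofSection (M 0) (τ₀.hom.app ⊤ _))
      rw [← ofSection_comp, genLocus_comp_iso]
      exact hk
    | succ n ih => exact S.generatedBy_succ (hM (n + 1)) (hM n) (ψ n) _ _ (hs n) ih
  choose r hr τ hτ using fun n => S3572.result m (S.g n) (M n) (hM n) (s n) (hgen n)
  have hcompat : ∀ n, S.i n ≫ r (n + 1) = r n := fun n => by
    let O1 := Twist.twistProjSpace m A 1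
    let e : (Scheme.Modules.pullback (S.i n ≫ r (n + 1))).obj O1 ≅
        (Scheme.Modules.pullback (r n)).obj O1 :=
      ((Scheme.Modules.pullbackComp (S.i n) (r (n + 1))).app O1).symm ≪≫
        (Scheme.Modules.pullback (S.i n)).mapIso (τ (n + 1)) ≪≫ ψ n ≪≫ (τ n).symm
    refine S3573.result m _ _ (by rw [Category.assoc, hr, hr, i_g]) e fun k => ?_
    have h1 : ((Scheme.Modules.pullbackComp (S.i n) (r (n + 1))).inv.app O1).app ⊤
        (ProjUP.pullSec (S.i n ≫ r (n + 1)) O1 (ProjUP.coord m A k)) =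
        pullS (S.i n) ((Scheme.Modules.pullback (r (n + 1))).obj O1) ⊤ (pullS (r (n + 1)) O1 ⊤ (ProjUP.coord m A k)) :=
      Props58.PullTensor.pullS_comp (S.i n) (r (n + 1)) O1 ⊤ (ProjUP.coord m A k)
    refine (congrArg (fun z => (τ n).inv.app ⊤ ((ψ n).hom.app ⊤
      (((Scheme.Modules.pullback (S.i n)).map (τ (n + 1)).hom).app ⊤ z))) h1).trans ?_
    refine (congrArg (fun z => (τ n).inv.app ⊤ ((ψ n).hom.app ⊤ z))
      ((Amp73.map_app_pullS (S.i n) (τ (n + 1)).hom ⊤ (pullS (r (n + 1)) O1 ⊤ (ProjUP.coord m A k))).trans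
        (congrArg (pullS (S.i n) (M (n + 1)) ⊤) (hτ (n + 1) k)))).trans ?_
    refine (congrArg ((τ n).inv.app ⊤) ((hs n k).trans (hτ n k).symm)).trans ?_
    exact congrArg (fun g => (Scheme.Modules.Hom.app g ⊤) _) (τ n).hom_inv_id
  have h0 : r 0 = ι := by
    refine S3573.result m _ _ ((hr 0).trans hι.symm) (τ 0 ≪≫ τ₀.symm) fun k => ?_
    refine (congrArg (τ₀.inv.app ⊤) (hτ 0 k)).trans ?_
    exact congrArg (fun g => (Scheme.Modules.Hom.app g ⊤) _) τ₀.hom_inv_id
  have hj : ∀ n, S.j n ≫ r n = ι := fun n => by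
    induction n with
    | zero => rw [j_zero, Category.id_comp, h0]
    | succ n ih => rw [j_succ, Category.assoc, hcompat, ih]
  refine ⟨r, fun n => ?_, hr, hcompat, fun n => ⟨τ n⟩⟩
  letI : (CohB1.ProjSpace m A).Over (Spec (CommRingCat.of A)) := ⟨CohB1.ProjSpace.toSpec m A⟩
  haveI := S.isLocallyNoetherian n
  haveI := S.surjective_j n
  exact isClosedImmersion_of_thickening (S.j n) I (S.ideal_ker_j n) (r n) (hr n) (by rw [hj]; infer_instance)

end ThickSys

end Groth.Agent.AlgFS69
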