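import Groth.Agent.AlgFS69.Quot
import Groth.Agent.QC70.Stalk

/-! A criterion for coherent formal systems. -/

set_option autoImplicit false
set_option linter.style.haveILetI false
set_option backward.isDefEq.respectTransparency.types false

universe u

open CategoryTheory CategoryTheory.Limits AlgebraicGeometry TopologicalSpace Opposite

noncomputable section

namespace Groth.Agent.AlgFS69

variable {A : Type u} [CommRing A] {X : Scheme.{u}} [X.Over (Spec (CommRingCat.of A))] {I : Ideal A}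

/-- A morphism vanishing on affine sections is zero. -/
theorem hom_eq_zero_of_affine {M N : X.Modules} (φ : M ⟶ N)
    (h : ∀ (V : X.affineOpens) (z : Γ(M, V.1)), φ.app V.1 z = 0) : φ = 0 := by
  refine Scheme.Modules.hom_ext _ _ fun W => ?_
  ext z
  refine Var76.ZeroScheme.eq_of_locally N _ _ fun p hpW => ?_
  obtain ⟨V, hV, hpV, hVW⟩ := exists_isAffineOpen_mem_and_subset (x := p) (U := W) hpW
  refine ⟨V, hVW, hpV, ?_⟩
  show QC70.res N hVW (φ.app W z) = QC70.res N hVW 0
  rw [QC70.res_zero, ← QC70.app_res]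
  exact h ⟨V, hV⟩ _

/-- A system is coherent formal if on affines the transitions are onto with kernels the powers. -/
theorem isCohFormal_of_affine (G₀ : ℕ → X.Modules) (r : (n : ℕ) → (G₀ (n + 1) ⟶ G₀ n))
    (hcoh : ∀ n, Coh.IsCoh (G₀ n)) (hkill : ∀ (n : ℕ), ∀ a ∈ I ^ (n + 1), Formal.smulMod A (G₀ n) a = 0)
    (hsurj : ∀ (n : ℕ) (V : X.affineOpens), Function.Surjective ((r n).app V.1))
    (hker : ∀ (n : ℕ) (V : X.affineOpens) (x : Γ(G₀ (n + 1), V.1)), (r n).app V.1 x = 0 →
      x ∈ Formal27.IM (G₀ (n + 1)) (I ^ (n + 1)) V.1) :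
    Formal.IsCohFormal I (Functor.ofOpSequence r) := by
  refine ⟨hcoh, hkill, fun n => ?_⟩
  have hmap : (Functor.ofOpSequence r).map (homOfLE (Nat.le_succ n)).op = r n :=
    Functor.ofOpSequence_map_homOfLE_succ _ n
  haveI : Epi (r n) := QC70.epi_of_locally_surjective _ fun W s p hpW => by
    obtain ⟨V, hV, hpV, hVW⟩ := exists_isAffineOpen_mem_and_subset (x := p) (U := W) hpW
    obtain ⟨a, ha⟩ := hsurj n ⟨V, hV⟩ (QC70.res (G₀ n) hVW s)
    exact ⟨V, hVW, a, hpV, ha⟩
  have h : Formal.smulFamily (I ^ (n + 1)) (G₀ (n + 1)) ≫ r n = 0 :=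
    Formal27.smulFamily_comp_eq_zero _ fun a ha =>
      (Formal27.smulMod_comp (r n) a).symm.trans ((congrArg (r n ≫ ·) (hkill n a ha)).trans comp_zero)
  let π' := Formal.modPowπ I (n + 1) (G₀ (n + 1))
  have h0 : kernel.ι (r n) ≫ π' = 0 := by
    refine hom_eq_zero_of_affine _ fun V z => ?_
    rw [Scheme.Modules.Hom.comp_app, ConcreteCategory.comp_apply]
    refine Formal27.modPowπ_app_eq_zero_of_mem (hker n V _ ?_)
    rw [← ConcreteCategory.comp_apply, ← Scheme.Modules.Hom.comp_app, kernel.condition]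
    rfl
  have key : ∀ (φ : G₀ (n + 1) ⟶ G₀ n), φ = r n →
      ∃ h : Formal.smulFamily (I ^ (n + 1)) (G₀ (n + 1)) ≫ φ = 0, IsIso (cokernel.desc _ φ h) := by
    rintro φ rfl
    exact ⟨h, Formal27.isIso_desc_of_factor _ (r n) h (Abelian.epiDesc (r n) π' h0) (Abelian.comp_epiDesc _ _ _)⟩
  exact key _ hmap

end Groth.Agent.AlgFS69

end
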