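import Groth.Agent.AlgFS69.Morph
import Groth.Agent.AlgFS69.SysCrit
import Groth.Agent.QC70.PushFinite
import Groth.Agent.EGAProj74.VectorBundle
import Groth.Agent.EGAProj74.RelSpecGamma
import Groth.Agent.EGA73.AffAlgMaps
import Groth.Agent.GE14.Support
import Groth.Agent.Algz14.RelInst

/-! Algebraization of formal schemes finite over a scheme, with proper first term. -/

set_option autoImplicit false
set_option linter.style.haveILetI false
set_option backward.isDefEq.respectTransparency.types false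

universe u

open CategoryTheory CategoryTheory.Limits AlgebraicGeometry TopologicalSpace Opposite

noncomputable section

namespace Groth.Agent.AlgFS69

section Alg

variable {X Y : Scheme.{u}} (j : Y ⟶ X) [QuasiCompact j] [QuasiSeparated j]

/-- The direct image of the structure sheaf as the module of the direct image algebra. -/
def pushToModule : (Scheme.Modules.pushforward j).obj (Coh.structureModule Y) ⟶
    (RelSpec.QCAlg.directImage j).toModule :=
  ⟨letI := (RelSpec.QCAlg.directImage j).moduleSect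
   PresheafOfModules.homMk
    { app := fun U => AddCommGrpCat.ofHom (AddMonoidHom.id Γ(Y, j ⁻¹ᵁ U.unop))
      naturality := fun _ _ _ => rfl }
    (fun _ _ _ => rfl)⟩

variable {j}

/-- The map of direct images of structure sheaves of a morphism over the base. -/
def pushMap {Y' : Scheme.{u}} {j' : Y' ⟶ X} (t : Y' ⟶ Y) (ht : t ≫ j = j') :
    (Scheme.Modules.pushforward j).obj (Coh.structureModule Y) ⟶
      (Scheme.Modules.pushforward j').obj (Coh.structureModule Y') :=
  ⟨PresheafOfModules.homMk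
    { app := fun U => AddCommGrpCat.ofHom ((AffAlg.algHom j j' t ht).app U).hom.toAddMonoidHom
      naturality := fun U V i => by
        ext x
        exact congr(($((AffAlg.algHom j j' t ht).naturality i)).hom x) }
    (fun U r x => (map_mul ((AffAlg.algHom j j' t ht).app U).hom (j.c.app U r) x).trans
      (congrArg (· * ((AffAlg.algHom j j' t ht).app U).hom x)
        congr((($(AffAlg.algHom_comm j j' t ht)).app U).hom r)))⟩

end Alg

/-- The map of direct image algebras of a morphism over the base. -/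
def algHomQC {X Y Y' : Scheme.{u}} {j : Y ⟶ X} [QuasiCompact j] [QuasiSeparated j] {j' : Y' ⟶ X}
    [QuasiCompact j'] [QuasiSeparated j'] (t : Y' ⟶ Y) (ht : t ≫ j = j') :
    RelSpec.QCAlg.directImage j ⟶ RelSpec.QCAlg.directImage j' :=
  ⟨AffAlg.algHom j j' t ht, AffAlg.algHom_comm j j' t ht⟩

section Bundle

variable {X : Scheme.{u}}

set_option maxHeartbeats 1600000 in
/-- Compatible quotients of a coherent module give closed immersions into its vector bundle. -/
theorem exists_bundle_immersions {Y : ℕ → Scheme.{u}} (j : (n : ℕ) → (Y n ⟶ X)) [∀ n, IsAffineHom (j n)]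
    (t : (n : ℕ) → (Y n ⟶ Y (n + 1))) (htj : ∀ n, t n ≫ j (n + 1) = j n) (M : X.Modules) (hM : Coh.IsCoh M)
    (φ₀ : (n : ℕ) → (M ⟶ (Scheme.Modules.pushforward (j n)).obj (Coh.structureModule (Y n))))
    (hφr : ∀ n, φ₀ (n + 1) ≫ pushMap (t n) (htj n) = φ₀ n)
    (hφsurj : ∀ (n : ℕ) {V : X.Opens}, IsAffineOpen V → Function.Surjective ((φ₀ n).app V)) :
    ∃ (P : Scheme.{u}) (π : P ⟶ X) (z : (n : ℕ) → (Y n ⟶ P)), IsAffineHom π ∧ LocallyOfFiniteType π ∧
      (∀ n, IsClosedImmersion (z n)) ∧ (∀ n, z n ≫ π = j n) ∧ ∀ n, t n ≫ z (n + 1) = z n := by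
  obtain ⟨S, g, hg⟩ : ∃ (S : RelSpec.QCAlg X) (g : M ⟶ S.toModule), RelSpec.IsSymAlg M S g :=
    (EGAProj74.exists_isSymAlg hM.1).imp fun _ h => h.imp fun _ h => h.1
  choose ψ hψ hψu using fun n => hg (RelSpec.QCAlg.directImage (j n)) (φ₀ n ≫ pushToModule (j n))
  haveI : IsIso S.gammaMap := EGAProj74.isIso_gammaMap S
  choose z hz hzω using fun n => EGA73.exists_over S.π (j n) (S.gammaMap ≫ (ψ n).hom)
    ((Category.assoc _ _ _).symm.trans ((congrArg (· ≫ (ψ n).hom) S.π_c_gammaMap).trans (ψ n).comm))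
  haveI hzc : ∀ n, IsClosedImmersion (z n) := fun n =>
    EGA73.isClosedImmersion_of_algHom_surjective S.π (j n) (z n) (hz n) fun U => by
      rw [hzω n, NatTrans.comp_app]
      intro c
      obtain ⟨m, hm⟩ := hφsurj n U.2 (show Γ((Scheme.Modules.pushforward (j n)).obj (Coh.structureModule (Y n)), U.1) from c)
      obtain ⟨b, hb⟩ := (ConcreteCategory.bijective_of_isIso (S.gammaMap.app (op U.1))).2
        (show S.presheaf.obj (op U.1) from g.app U.1 m)
      refine ⟨b, ?_⟩
      show (ψ n).hom.app (op U.1) (S.gammaMap.app (op U.1) b) = c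
      rw [hb]
      exact (congr((Scheme.Modules.Hom.app $(hψ n) U.1) m)).trans hm
  have hψr : ∀ n, ψ n = ψ (n + 1) ≫ algHomQC (t n) (htj n) := fun n => by
    refine ((hψu n) _ ?_).symm
    refine Scheme.Modules.hom_ext _ _ fun U => ?_
    ext m
    show ((AffAlg.algHom (j (n + 1)) (j n) (t n) (htj n)).app (op U)).hom ((ψ (n + 1)).hom.app (op U) (g.app U m)) =
      (φ₀ n).app U m
    rw [← hφr n]
    exact congrArg ((AffAlg.algHom (j (n + 1)) (j n) (t n) (htj n)).app (op U)).hom
      (congr((Scheme.Modules.Hom.app $(hψ (n + 1)) U) m))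
  have hzt : ∀ n, t n ≫ z (n + 1) = z n := fun n => by
    refine EGA73.over_ext S.π (j n) (by rw [Category.assoc, hz, htj]) (hz n) ?_
    rw [EGA73.algHom_comp S.π (j (n + 1)) (j n) (z (n + 1)) (t n) (hz _) (htj n), hzω, hzω,
      Category.assoc]
    exact congrArg (S.gammaMap ≫ ·) (congrArg RelSpec.QCAlg.Hom.hom (hψr n)).symm
  exact ⟨S.spec, S.π, z, inferInstance, EGAProj74.finiteType_symAlg hM.1 hM.2 hg, hzc, hz, hzt⟩

end Bundle

variable (A : Type u) [CommRing A] [IsNoetherianRing A] (I : Ideal A) [IsAdicComplete I A] {X : Scheme.{u}}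

variable (f : X ⟶ Spec (CommRingCat.of A)) (Y : ℕ → Scheme.{u}) (y : (n : ℕ) → (Y n ⟶ CohB1.thick f I n))
  (t : (n : ℕ) → (Y n ⟶ Y (n + 1)))

set_option maxHeartbeats 1600000 in
/-- The direct images of the structure sheaves form a coherent formal system with proper support. -/
theorem exists_push_algebraization [IsSeparated f] [LocallyOfFiniteType f] [QuasiCompact f]
    (j : (n : ℕ) → (Y n ⟶ X)) (hjy : ∀ n, j n = y n ≫ CohB1.thickι f I n) [∀ n, IsFinite (j n)]
    (htj : ∀ n, t n ≫ j (n + 1) = j n)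
    (hsq : ∀ n, IsPullback (t n) (y n) (j (n + 1)) (CohB1.thickι f I n))
    (hp : IsProper (y 0 ≫ CohB1.thickToBase f I 0)) :
    ∃ (M : X.Modules) (φ₀ : (n : ℕ) → (M ⟶ (Scheme.Modules.pushforward (j n)).obj (Coh.structureModule (Y n)))),
      Coh.IsCoh M ∧ (∀ n, φ₀ (n + 1) ≫ pushMap (t n) (htj n) = φ₀ n) ∧
      ∀ (n : ℕ) {V : X.Opens}, IsAffineOpen V → Function.Surjective ((φ₀ n).app V) := by
  letI ov : X.Over (Spec (CommRingCat.of A)) := ⟨f⟩
  haveI : IsSeparated (X ↘ Spec (CommRingCat.of A)) := inferInstanceAs (IsSeparated f)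
  haveI : LocallyOfFiniteType (X ↘ Spec (CommRingCat.of A)) := inferInstanceAs (LocallyOfFiniteType f)
  haveI : QuasiCompact (X ↘ Spec (CommRingCat.of A)) := inferInstanceAs (QuasiCompact f)
  haveI : IsLocallyNoetherian X := LocallyOfFiniteType.isLocallyNoetherian f
  haveI : ∀ k, IsClosedImmersion (CohB1.specQuot I k) := fun k =>
    IsClosedImmersion.spec_of_surjective _ Ideal.Quotient.mk_surjective
  haveI : ∀ k, IsClosedImmersion (CohB1.thickι f I k) := fun k =>
    MorphismProperty.pullback_fst (P := @IsClosedImmersion) _ _ inferInstance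
  haveI : ∀ n, IsLocallyNoetherian (Y n) := fun n => LocallyOfFiniteType.isLocallyNoetherian (j n)
  haveI htc : ∀ n, IsClosedImmersion (t n) := fun n =>
    MorphismProperty.of_isPullback (P := @IsClosedImmersion) (hsq n).flip inferInstance
  let G₀ : (n : ℕ) → X.Modules := fun n => (Scheme.Modules.pushforward (j n)).obj (Coh.structureModule (Y n))
  let r : (n : ℕ) → (G₀ (n + 1) ⟶ G₀ n) := fun n => pushMap (t n) (htj n)
  let G : ℕᵒᵖ ⥤ X.Modules := Functor.ofOpSequence (X := G₀) r
  have hcoh : ∀ n, Coh.IsCoh (G₀ n) := fun n => QC70.isCoh_pushforward_of_isFinite (j n) _ QC70.isCoh_unit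
  haveI : ∀ n, (G₀ n).IsQuasicoherent := fun n => (hcoh n).1
  have happ : ∀ (n : ℕ) (U : X.Opens) (x : Γ(Y (n + 1), j (n + 1) ⁻¹ᵁ U)),
      (r n).app U x = (t n).appLE (j (n + 1) ⁻¹ᵁ U) (j n ⁻¹ᵁ U)
        (by rw [← Scheme.Hom.comp_preimage, htj]) x := fun n U x => by
    show ((AffAlg.algHom (j (n + 1)) (j n) (t n) (htj n)).app (op U)).hom x = _
    rw [EGA73.algHom_app]
  have hsurj : ∀ (n : ℕ) {V : X.Opens}, IsAffineOpen V → Function.Surjective ((r n).app V) := by
    intro n V hV z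
    have key : ∀ (O : (Y n).Opens) (e : O ≤ t n ⁻¹ᵁ (j (n + 1) ⁻¹ᵁ V)), O = t n ⁻¹ᵁ (j (n + 1) ⁻¹ᵁ V) →
        Function.Surjective ((t n).appLE (j (n + 1) ⁻¹ᵁ V) O e) := by
      rintro O e rfl
      rw [← Scheme.Hom.app_eq_appLE]
      exact (t n).app_surjective _ (hV.preimage (j (n + 1)))
    obtain ⟨x, hx⟩ := key (j n ⁻¹ᵁ V) (by rw [← Scheme.Hom.comp_preimage, htj])
      (by rw [← Scheme.Hom.comp_preimage, htj]) z
    exact ⟨x, (happ n V x).trans hx⟩
  have hker : ∀ (n : ℕ) {V : X.Opens}, IsAffineOpen V → ∀ x : Γ(G₀ (n + 1), V), (r n).app V x = 0 →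
      x ∈ Formal27.IM (G₀ (n + 1)) (I ^ (n + 1)) V := by
    intro n V hV x hx
    let O : (Y (n + 1)).affineOpens := ⟨j (n + 1) ⁻¹ᵁ V, hV.preimage (j (n + 1))⟩
    let x' : Γ(Y (n + 1), j (n + 1) ⁻¹ᵁ V) := x
    have key : ∀ (O' : (Y n).Opens) (e : O' ≤ t n ⁻¹ᵁ O.1), O' = t n ⁻¹ᵁ O.1 →
        (t n).appLE O.1 O' e x' = 0 → x' ∈ (t n).ker.ideal O := by
      rintro O' e rfl h0
      rw [Scheme.Hom.ker_apply, RingHom.mem_ker]
      rwa [← Scheme.Hom.app_eq_appLE] at h0
    have hm := key (j n ⁻¹ᵁ V) (by rw [← Scheme.Hom.comp_preimage, htj])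
      (by rw [← Scheme.Hom.comp_preimage, htj]) ((happ n V x').symm.trans hx)
    have hk : (t n).ker = (CohB1.thickι f I n).ker.comap (j (n + 1)) := by
      rw [← Scheme.IdealSheafData.ker_fst_of_isClosedImmersion, ← (hsq n).isoPullback_inv_fst,
        Scheme.Hom.ker_comp_of_isIso]
    rw [hk, MP99.ideal_comap _ (j (n + 1)) ⟨V, hV⟩ O le_rfl,
      show (CohB1.thickι f I n).ker.ideal ⟨V, hV⟩ = (I ^ (n + 1)).map (Formal27.gi A X V) from
        ideal_ker_thickι (X := X) I n ⟨V, hV⟩, Ideal.map_map] at hm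
    suffices H : ∀ z : Γ(Y (n + 1), j (n + 1) ⁻¹ᵁ V),
        z ∈ (I ^ (n + 1)).map (((j (n + 1)).appLE V O.1 le_rfl).hom.comp (Formal27.gi A X V)) →
        (show Γ(G₀ (n + 1), V) from z) ∈ Formal27.IM (G₀ (n + 1)) (I ^ (n + 1)) V from H x' hm
    intro z hz
    refine Submodule.span_induction
      (p := fun (w : Γ(Y (n + 1), j (n + 1) ⁻¹ᵁ V)) _ =>
        ∀ c : Γ(Y (n + 1), j (n + 1) ⁻¹ᵁ V),
          (show Γ(G₀ (n + 1), V) from c * w) ∈ Formal27.IM (G₀ (n + 1)) (I ^ (n + 1)) V)
      ?_ ?_ ?_ ?_ hz 1 |> fun h => by simpa using h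
    · rintro _ ⟨a, ha, rfl⟩ c
      have e : (show Γ(G₀ (n + 1), V) from c * ((j (n + 1)).appLE V O.1 le_rfl) (Formal27.gi A X V a)) =
          Formal27.gi A X V a • (show Γ(G₀ (n + 1), V) from c) := by
        rw [← Scheme.Hom.app_eq_appLE]
        exact mul_comm c ((j (n + 1)).app V (Formal27.gi A X V a))
      exact e ▸ Formal27.smul_mem_IM ha _
    · intro c
      rw [mul_zero]
      exact zero_mem _
    · intro a b _ _ ha hb c
      rw [mul_add]
      exact add_mem (ha c) (hb c)
    · intro a b _ hb c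
      rw [smul_eq_mul, ← mul_assoc]
      exact hb (c * a)
  have hkill : ∀ (n : ℕ), ∀ a ∈ I ^ (n + 1), Formal.smulMod A (G₀ n) a = 0 := fun n a ha => by
    refine hom_eq_zero_of_affine _ fun V m => ?_
    have h0 : (j n).app V.1 (Formal27.gi A X V.1 a) = 0 := by
      refine RingHom.mem_ker.1 ((j n).ideal_ker_le V ?_)
      rw [hjy n]
      refine Scheme.Hom.le_ker_comp (y n) (CohB1.thickι f I n) V ?_
      exact (ideal_ker_thickι (X := X) I n V).symm.le (Ideal.mem_map_of_mem _ ha)
    let c : Γ(Y n, j n ⁻¹ᵁ V.1) := m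
    show (j n).app V.1 (Formal27.gi A X V.1 a) * c = 0
    rw [h0, zero_mul]
  have hG : Formal.IsCohFormal I G :=
    isCohFormal_of_affine G₀ r hcoh hkill (fun n V => hsurj n V.2) fun n V x hx => hker n V.2 x hx
  have hs : ClSub.IsProperOver f (CohB1.support (G.obj (op 0))) := by
    haveI : (G₀ 0).IsFiniteType := (hcoh 0).2
    haveI : IsProper (j 0 ≫ f) := by
      rw [show j 0 ≫ f = (y 0 ≫ CohB1.thickToBase f I 0) ≫ CohB1.specQuot I 0 from by
        rw [hjy 0, Category.assoc, Category.assoc]; exact congrArg (y 0 ≫ ·) pullback.condition]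
      haveI := hp
      infer_instance
    have huniv : ClSub.IsProperOver (j 0 ≫ f) (Set.univ : Set (Y 0)) := by
      refine (Coh69.PO.iff_of_range (𝟙 (Y 0)) (Set.range_eq_univ.2 fun z => ⟨z, rfl⟩)).2 ?_
      rw [Category.id_comp]
      infer_instance
    have himg := Coh69.PO.image (j 0) rfl huniv fun R i _ _ => inferInstance
    exact Coh69.PO.mono himg (QC70.isClosed_support (G₀ 0))
      (GE14.support_pushforward_subset _ _ himg.1 fun q _ => ⟨q, trivial, rfl⟩)
  obtain ⟨M, hM, -, ⟨e⟩⟩ := GE14.exists_completion_of_proper_support X hG hs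
  haveI := hM.1
  haveI := hM.2
  let φ₀ : (n : ℕ) → (M ⟶ G₀ n) := fun n => Formal.modPowπ I (n + 1) M ≫ e.hom.app (op n)
  have hφr : ∀ n, φ₀ (n + 1) ≫ r n = φ₀ n := fun n => by
    have hnat := e.hom.naturality (homOfLE (Nat.le_succ n)).op
    rw [show G.map (homOfLE (Nat.le_succ n)).op = r n from Functor.ofOpSequence_map_homOfLE_succ _ n] at hnat
    refine (Category.assoc _ _ _).trans ?_
    refine (congrArg (Formal.modPowπ I (n + 1 + 1) M ≫ ·) hnat.symm).trans ?_
    refine (Category.assoc _ _ _).symm.trans (congrArg (· ≫ e.hom.app (op n)) ?_)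
    exact (congrArg (Formal.modPowπ I (n + 1 + 1) M ≫ ·) (Algz14.completion_map_succ I M n)).trans
      (Formal.modPowπ_trans I (n + 1) M)
  have hφsurj : ∀ (n : ℕ) {V : X.Opens}, IsAffineOpen V → Function.Surjective ((φ₀ n).app V) := fun n V hV => by
    let en : Formal.modPow I (n + 1) M ≅ G₀ n := e.app (op n)
    have hs : Function.Surjective (en.hom.app V) := fun z => ⟨en.inv.app V z, by
      rw [← ConcreteCategory.comp_apply, ← Scheme.Modules.Hom.comp_app, en.inv_hom_id]; rfl⟩
    exact hs.comp (Formal27.modPowπ_app_surjective I (n + 1) hV)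
  exact ⟨M, φ₀, hM, hφr, hφsurj⟩

set_option maxHeartbeats 1600000 in
/-- A formal scheme finite over `X` with proper first term comes from a scheme finite over `X`. -/
theorem exists_finite_algebraization [IsSeparated f] [LocallyOfFiniteType f]
    [QuasiCompact f] (hy : ∀ n, IsFinite (y n))
    (ht : ∀ n, IsPullback (t n) (y n) (y (n + 1)) (CohB1.thickTrans f I n))
    (hp : IsProper (y 0 ≫ CohB1.thickToBase f I 0)) :
    ∃ (W : Scheme.{u}) (i : W ⟶ X) (w : (n : ℕ) → (Y n ⟶ W)), IsFinite i ∧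
      IsProper (i ≫ f) ∧ (∀ n, w n = t n ≫ w (n + 1)) ∧ ∀ n, IsPullback (w n) (y n) i (CohB1.thickι f I n) := by
  letI ov : X.Over (Spec (CommRingCat.of A)) := ⟨f⟩
  haveI : IsSeparated (X ↘ Spec (CommRingCat.of A)) := inferInstanceAs (IsSeparated f)
  haveI : LocallyOfFiniteType (X ↘ Spec (CommRingCat.of A)) := inferInstanceAs (LocallyOfFiniteType f)
  haveI : QuasiCompact (X ↘ Spec (CommRingCat.of A)) := inferInstanceAs (QuasiCompact f)
  haveI : IsLocallyNoetherian X := LocallyOfFiniteType.isLocallyNoetherian f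
  haveI : ∀ k, IsClosedImmersion (CohB1.specQuot I k) := fun k =>
    IsClosedImmersion.spec_of_surjective _ Ideal.Quotient.mk_surjective
  haveI : ∀ k, IsClosedImmersion (CohB1.thickι f I k) := fun k =>
    MorphismProperty.pullback_fst (P := @IsClosedImmersion) _ _ inferInstance
  haveI := hy
  let j : (n : ℕ) → (Y n ⟶ X) := fun n => y n ≫ CohB1.thickι f I n
  haveI hj : ∀ n, IsFinite (j n) := fun n => inferInstanceAs (IsFinite (y n ≫ _))
  haveI : ∀ n, IsLocallyNoetherian (Y n) := fun n => LocallyOfFiniteType.isLocallyNoetherian (j n)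
  have hsq : ∀ n, IsPullback (t n) (y n) (j (n + 1)) (CohB1.thickι f I n) := fun n => by
    have h := (ht n).paste_vert (isPullback_thickTrans_ι (X := X) (A := A) I n)
    have e : y n ≫ 𝟙 (CohB1.thick f I n) = y n := Category.comp_id (y n)
    exact e ▸ h
  have htj : ∀ n, t n ≫ j (n + 1) = j n := fun n => (hsq n).w
  haveI htc : ∀ n, IsClosedImmersion (t n) := fun n =>
    MorphismProperty.of_isPullback (P := @IsClosedImmersion) (hsq n).flip inferInstance
  obtain ⟨M, φ₀, hM, hφr, hφsurj⟩ := exists_push_algebraization A I f Y y t j (fun _ => rfl) htj hsq hp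
  haveI := hM.1
  haveI := hM.2
  obtain ⟨P, π, z, hπa, hπt, hzc, hz, hzt⟩ := exists_bundle_immersions j t htj M hM φ₀ hφr hφsurj
  let F : P ⟶ Spec (CommRingCat.of A) := π ≫ f
  have hcond : ∀ n, z n ≫ F = (y n ≫ CohB1.thickToBase f I n) ≫ CohB1.specQuot I n := fun n => by
    rw [reassoc_of% (hz n), Category.assoc]
    exact congrArg (y n ≫ ·) (pullback.condition (f := f) (g := CohB1.specQuot I n))
  let z' : (n : ℕ) → (Y n ⟶ CohB1.thick F I n) := fun n =>
    pullback.lift (z n) (y n ≫ CohB1.thickToBase f I n) (hcond n)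
  have hz'₁ : ∀ n, z' n ≫ CohB1.thickι F I n = z n := fun n => pullback.lift_fst _ _ _
  have hz'₂ : ∀ n, z' n ≫ CohB1.thickToBase F I n = y n ≫ CohB1.thickToBase f I n :=
    fun n => pullback.lift_snd _ _ _
  have hzc' : ∀ n, IsClosedImmersion (z' n) := fun n => by
    haveI : IsClosedImmersion (z' n ≫ CohB1.thickι F I n) := by rw [hz'₁]; infer_instance
    haveI : IsClosedImmersion (CohB1.thickι F I n) :=
      MorphismProperty.pullback_fst (P := @IsClosedImmersion) _ _ inferInstance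
    exact IsClosedImmersion.of_comp (z' n) (CohB1.thickι F I n)
  let q : (n : ℕ) → (CohB1.thick F I n ⟶ CohB1.thick f I n) := fun n =>
    pullback.map F (CohB1.specQuot I n) f (CohB1.specQuot I n) π (𝟙 _) (𝟙 _)
      (Category.comp_id _) ((Category.comp_id _).trans (Category.id_comp _).symm)
  have hq₁ : ∀ n, q n ≫ CohB1.thickι f I n = CohB1.thickι F I n ≫ π := fun n => pullback.lift_fst _ _ _
  have hq₂ : ∀ n, q n ≫ CohB1.thickToBase f I n = CohB1.thickToBase F I n := fun n =>
    (pullback.lift_snd _ _ _).trans (Category.comp_id _)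
  have hqsq : ∀ n, IsPullback (CohB1.thickι F I n) (q n) π (CohB1.thickι f I n) := fun n => by
    refine IsPullback.of_bot ?_ (hq₁ n).symm (IsPullback.of_hasPullback f (CohB1.specQuot I n))
    rw [hq₂]
    exact IsPullback.of_hasPullback F (CohB1.specQuot I n)
  have hzq : ∀ n, z' n ≫ q n = y n := fun n => thick_hom_ext
    (by rw [Category.assoc, hq₁, reassoc_of% (hz'₁ n), hz])
    (by rw [Category.assoc, hq₂, hz'₂])
  have htz : ∀ n, IsPullback (t n) (z' n) (z' (n + 1)) (CohB1.thickTrans F I n) := fun n => by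
    refine IsPullback.of_bot ?_ ?_ (isPullback_thickTrans F n)
    · rw [hz'₂, hz'₂]
      exact (ht n).paste_vert (isPullback_thickTrans f n)
    · refine thick_hom_ext ?_ ?_
      · rw [Category.assoc, Category.assoc, hz'₁,
          show CohB1.thickTrans F I n ≫ CohB1.thickι F I (n + 1) = CohB1.thickι F I n from
            (pullback.lift_fst _ _ _).trans (Category.comp_id _), hz'₁]
        exact hzt n
      · rw [Category.assoc, Category.assoc, hz'₂, (isPullback_thickTrans F n).w, reassoc_of% (hz'₂ n)]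
        exact ((ht n).paste_vert (isPullback_thickTrans f n)).w
  haveI : IsProper (z' 0 ≫ CohB1.thickToBase F I 0) := by rw [hz'₂]; exact hp
  obtain ⟨W, i, w, hi, hip, hwt, hw⟩ := exists_closed_algebraization A I F Y z' t hzc' htz inferInstance
  haveI : IsProper ((i ≫ π) ≫ f) := by rw [Category.assoc]; exact hip
  haveI : IsProper (i ≫ π) := IsProper.of_comp (i ≫ π) f
  refine ⟨W, i ≫ π, w, ?_, inferInstance, hwt, fun n => ?_⟩
  · exact (IsFinite.iff_isProper_and_isAffineHom (f := i ≫ π)).2 ⟨inferInstance, inferInstance⟩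
  · have h := (hw n).paste_vert (hqsq n)
    rwa [hzq] at h

end Groth.Agent.AlgFS69

end
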