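import Groth.Agent.AlgFS69.ThickSys
import Groth.Agent.AlgFS69.SysCrit
import Groth.Agent.GE14.GradedVanish
import Groth.Agent.GE14.KerFamily
import Groth.Agent.GSS45.ClosedHom
import Groth.Agent.QCPull72.Closed
import Groth.Agent.ZClos93.Flat

/-! The graded family of kernels of a system of thickenings, on the first term. -/

set_option autoImplicit false
set_option linter.style.haveILetI false
set_option linter.unusedSectionVars false
set_option backward.isDefEq.respectTransparency.types false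

universe u

open CategoryTheory CategoryTheory.Limits AlgebraicGeometry TopologicalSpace Opposite

noncomputable section

namespace Groth.Agent.AlgFS69

/-- The map `O ⟶ f_* O`. -/
def strMap {Y X : Scheme.{u}} (f : Y ⟶ X) :
    Coh.structureModule X ⟶ (Scheme.Modules.pushforward f).obj (Coh.structureModule Y) :=
  ⟨PresheafOfModules.homMk
    { app := fun U => AddCommGrpCat.ofHom (f.app U.unop).hom.toAddMonoidHom
      naturality := fun U V i => by
        ext x
        exact congr(($(f.naturality i)).hom x) }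
    (fun U r x => map_mul (f.app U.unop).hom r x)⟩

theorem strMap_app {Y X : Scheme.{u}} (f : Y ⟶ X) (U : X.Opens) (x : Γ(X, U)) :
    (strMap f).app U x = f.app U x := rfl

theorem epi_of_affine_surjective {X : Scheme.{u}} {M N : X.Modules} (φ : M ⟶ N)
    (h : ∀ V : X.affineOpens, Function.Surjective (φ.app V.1)) : Epi φ :=
  QC70.epi_of_locally_surjective _ fun W s p hpW => by
    obtain ⟨V, hV, hpV, hVW⟩ := exists_isAffineOpen_mem_and_subset (x := p) (U := W) hpW
    obtain ⟨a, ha⟩ := h ⟨V, hV⟩ (QC70.res N hVW s)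
    exact ⟨V, hVW, a, hpV, ha⟩

namespace ThickSys

variable {A : Type u} [CommRing A] [IsNoetherianRing A] {I : Ideal A} (S : ThickSys I)

/-- The structure sheaf of the previous term. -/
abbrev O' (n : ℕ) : (S.X (n + 1)).Modules :=
  (Scheme.Modules.pushforward (S.i n)).obj (Coh.structureModule (S.X n))

/-- The projection `O ⟶ O'`. -/
abbrev ρ (n : ℕ) : Coh.structureModule (S.X (n + 1)) ⟶ S.O' n := strMap (S.i n)

theorem ρ_surjective (n : ℕ) (V : (S.X (n + 1)).affineOpens) : Function.Surjective ((S.ρ n).app V.1) :=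
  fun y => (S.i n).app_surjective V.1 V.2 y

instance epi_ρ (n : ℕ) : Epi (S.ρ n) := epi_of_affine_surjective _ (S.ρ_surjective n)

theorem epi_push_ρ (n : ℕ) : Epi ((Scheme.Modules.pushforward (S.i (n + 1))).map (S.ρ n)) :=
  epi_of_affine_surjective _ fun V => S.ρ_surjective n ⟨(S.i (n + 1)) ⁻¹ᵁ V.1, V.2.preimage _⟩

theorem isCoh_kerρ (n : ℕ) : Coh.IsCoh (kernel (S.ρ n)) := by
  haveI := S.isNoetherian (n + 1)
  haveI := S.isNoetherian n
  exact QC70.isCoh_kernel _ QC70.isCoh_unit (QC70.isCoh_pushforward (S.i n) _ QC70.isCoh_unit).1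

theorem kerρ_mem (n : ℕ) (V : (S.X (n + 1)).affineOpens) (y : Γ(kernel (S.ρ n), V.1)) :
    (show Γ(S.X (n + 1), V.1) from (kernel.ι (S.ρ n)).app V.1 y) ∈
      (I ^ (n + 1)).map (Formal27.gi A (S.X (n + 1)) V.1) := by
  have h := QC70.app_f_g (ShortComplex.mk _ _ (kernel.condition (S.ρ n))) V.1 y
  rw [← S.ideal_ker_i n V, Scheme.Hom.ker_apply, RingHom.mem_ker]
  exact h

theorem gi_mul_eq_zero (n : ℕ) (V : (S.X (n + 1)).affineOpens) {c y : Γ(S.X (n + 1), V.1)}
    (hc : c ∈ I.map (Formal27.gi A (S.X (n + 1)) V.1))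
    (hy : y ∈ (I ^ (n + 1)).map (Formal27.gi A (S.X (n + 1)) V.1)) : c * y = 0 := by
  have h := Ideal.mul_mem_mul hc hy
  rw [← Ideal.map_mul, ← pow_succ', S.map_gi_eq_bot (n + 1) V] at h
  exact Ideal.mem_bot.1 h

theorem kerι_smul (n : ℕ) {a : A} (ha : a ∈ I) :
    kernel.ι (S.ρ n) ≫ Formal.smulMod A (Coh.structureModule (S.X (n + 1))) a = 0 :=
  hom_eq_zero_of_affine _ fun V y =>
    S.gi_mul_eq_zero n V (Ideal.mem_map_of_mem _ ha) (S.kerρ_mem n V y)

theorem isIso_pullUnit_kerρ (n : ℕ) : IsIso (QCPull72.pullUnit (S.j (n + 1)) (kernel (S.ρ n))) := by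
  haveI := (S.isCoh_kerρ n).1
  refine (QCPull72.isIso_pullUnit_iff _ _).2 fun V a ha s => QC70.app_injective_of_mono (kernel.ι (S.ρ n)) V.1 ?_
  rw [map_zero, Scheme.Modules.Hom.app_smul]
  rw [S.ideal_ker_j] at ha
  exact S.gi_mul_eq_zero n V ha (S.kerρ_mem n V s)

/-- The members of the family. -/
def K (n : ℕ) : (S.X 0).Modules := (Scheme.Modules.pullback (S.j (n + 1))).obj (kernel (S.ρ n))

theorem isCoh_K (n : ℕ) : Coh.IsCoh (S.K n) := by
  haveI := S.isNoetherian 0
  haveI := S.isNoetherian (n + 1)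
  exact ZClos93.isCoh_pullback _ _ (S.isCoh_kerρ n)

/-- The members of the family as kernels. -/
def uK (n : ℕ) : kernel (S.ρ n) ≅ (Scheme.Modules.pushforward (S.j (n + 1))).obj (S.K n) :=
  @asIso _ _ _ _ (QCPull72.pullUnit (S.j (n + 1)) (kernel (S.ρ n))) (S.isIso_pullUnit_kerρ n)

/-- Multiplication by `a`, raising the level. -/
def μ (n : ℕ) {a : A} (ha : a ∈ I) : S.O' n ⟶ Coh.structureModule (S.X (n + 1)) :=
  (ShortComplex.exact_of_f_is_kernel (ShortComplex.mk _ _ (kernel.condition (S.ρ n)))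
    (kernelIsKernel _)).desc (Formal.smulMod A _ a) (S.kerι_smul n ha)

theorem ρ_μ (n : ℕ) {a : A} (ha : a ∈ I) :
    S.ρ n ≫ S.μ n ha = Formal.smulMod A (Coh.structureModule (S.X (n + 1))) a :=
  (ShortComplex.exact_of_f_is_kernel (ShortComplex.mk _ _ (kernel.condition (S.ρ n)))
    (kernelIsKernel _)).g_desc _ _

theorem μ_ρ (n : ℕ) {a : A} (ha : a ∈ I) : S.μ n ha ≫ S.ρ n = Formal.smulMod A (S.O' n) a := by
  rw [← cancel_epi (S.ρ n), ← Category.assoc, ρ_μ]
  exact (Formal27.smulMod_comp (S.ρ n) a).symm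

theorem push_kerι_μ (n : ℕ) {a : A} (ha : a ∈ I) :
    ((Scheme.Modules.pushforward (S.i (n + 1))).map (kernel.ι (S.ρ n)) ≫ S.μ (n + 1) ha) ≫ S.ρ (n + 1) = 0 := by
  rw [Category.assoc, μ_ρ, ← Formal27.pushforward_map_smulMod (S.i (n + 1)) (S.i_g (n + 1)),
    ← Functor.map_comp, kerι_smul S n ha, Functor.map_zero]

/-- The operators, upstairs. -/
def L (n : ℕ) {a : A} (ha : a ∈ I) :
    (Scheme.Modules.pushforward (S.i (n + 1))).obj (kernel (S.ρ n)) ⟶ kernel (S.ρ (n + 1)) :=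
  kernel.lift _ _ (S.push_kerι_μ n ha)

/-- The operators, pushed forward. -/
def T (n : ℕ) {a : A} (ha : a ∈ I) : (Scheme.Modules.pushforward (S.j (n + 2))).obj (S.K n) ⟶
    (Scheme.Modules.pushforward (S.j (n + 2))).obj (S.K (n + 1)) :=
  (Scheme.Modules.pushforwardComp (S.j (n + 1)) (S.i (n + 1))).inv.app (S.K n) ≫
    (Scheme.Modules.pushforward (S.i (n + 1))).map (S.uK n).inv ≫ S.L n ha ≫ (S.uK (n + 1)).hom

/-- The operators. -/
def t (n : ℕ) {a : A} (ha : a ∈ I) : S.K n ⟶ S.K (n + 1) :=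
  haveI := GSS45.ClosedHom.full_pushforward (S.j (n + 2))
  (Scheme.Modules.pushforward (S.j (n + 2))).preimage (S.T n ha)

theorem map_t (n : ℕ) {a : A} (ha : a ∈ I) :
    (Scheme.Modules.pushforward (S.j (n + 2))).map (S.t n ha) = S.T n ha :=
  haveI := GSS45.ClosedHom.full_pushforward (S.j (n + 2))
  Functor.map_preimage _ _

theorem push_μ_μ_comm (n : ℕ) {a b : A} (ha : a ∈ I) (hb : b ∈ I) :
    (Scheme.Modules.pushforward (S.i (n + 1))).map (S.μ n ha) ≫ S.μ (n + 1) hb =
      (Scheme.Modules.pushforward (S.i (n + 1))).map (S.μ n hb) ≫ S.μ (n + 1) ha := by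
  haveI := S.epi_push_ρ n
  have key : ∀ {c d : A} (hc : c ∈ I) (hd : d ∈ I), S.ρ (n + 1) ≫ (Scheme.Modules.pushforward (S.i (n + 1))).map (S.ρ n) ≫
      (Scheme.Modules.pushforward (S.i (n + 1))).map (S.μ n hc) ≫ S.μ (n + 1) hd =
      Formal.smulMod A (Coh.structureModule (S.X (n + 1 + 1))) d ≫ Formal.smulMod A _ c := by
    intro c d hc hd
    rw [← Functor.map_comp_assoc, ρ_μ, Formal27.pushforward_map_smulMod (S.i (n + 1)) (S.i_g (n + 1)),
      ← Formal27.smulMod_comp (S.μ (n + 1) hd) c, ← Category.assoc, ρ_μ]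
  rw [← cancel_epi ((Scheme.Modules.pushforward (S.i (n + 1))).map (S.ρ n)), ← cancel_epi (S.ρ (n + 1)),
    key ha hb, key hb ha]
  refine Scheme.Modules.hom_ext _ _ fun V => ?_
  ext m
  change Formal27.gi A (S.X (n + 1 + 1)) V a • Formal27.gi A (S.X (n + 1 + 1)) V b • m =
    Formal27.gi A (S.X (n + 1 + 1)) V b • Formal27.gi A (S.X (n + 1 + 1)) V a • m
  rw [smul_comm]

theorem push_L_L_comm (n : ℕ) {a b : A} (ha : a ∈ I) (hb : b ∈ I) :
    (Scheme.Modules.pushforward (S.i (n + 2))).map (S.L n ha) ≫ S.L (n + 1) hb =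
      (Scheme.Modules.pushforward (S.i (n + 2))).map (S.L n hb) ≫ S.L (n + 1) ha := by
  rw [← cancel_mono (kernel.ι (S.ρ (n + 1 + 1)))]
  simp only [L, Category.assoc, kernel.lift_ι, ← Functor.map_comp_assoc]
  simp only [Functor.map_comp, Category.assoc]
  exact congrArg ((Scheme.Modules.pushforward (S.i (n + 2))).map
    ((Scheme.Modules.pushforward (S.i (n + 1))).map (kernel.ι (S.ρ n))) ≫ ·) (S.push_μ_μ_comm (n + 1) ha hb)

theorem t_comm (n : ℕ) {a b : A} (ha : a ∈ I) (hb : b ∈ I) :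
    S.t n ha ≫ S.t (n + 1) hb = S.t n hb ≫ S.t (n + 1) ha := by
  haveI := QC70.faithful_pushforward (S.j (n + 3))
  apply (Scheme.Modules.pushforward (S.j (n + 3))).map_injective
  let P := Scheme.Modules.pushforwardComp (S.j (n + 2)) (S.i (n + 2))
  have key : ∀ {c d : A} (hc : c ∈ I) (hd : d ∈ I),
      (Scheme.Modules.pushforward (S.j (n + 3))).map (S.t n hc ≫ S.t (n + 1) hd) =
        P.inv.app _ ≫ (Scheme.Modules.pushforward (S.i (n + 2))).map
            ((Scheme.Modules.pushforwardComp (S.j (n + 1)) (S.i (n + 1))).inv.app (S.K n) ≫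
              (Scheme.Modules.pushforward (S.i (n + 1))).map (S.uK n).inv) ≫
          ((Scheme.Modules.pushforward (S.i (n + 2))).map (S.L n hc) ≫ S.L (n + 1) hd) ≫
            (S.uK (n + 1 + 1)).hom := by
    intro c d hc hd
    rw [Functor.map_comp, S.map_t (n + 1) hd]
    have hnat := P.inv.naturality (S.t n hc)
    rw [Functor.comp_map, S.map_t n hc] at hnat
    refine Eq.trans (congrArg ((Scheme.Modules.pushforward (S.j (n + 3))).map (S.t n hc) ≫ ·) (show S.T (n + 1) hd =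
      P.inv.app (S.K (n + 1)) ≫ (Scheme.Modules.pushforward (S.i (n + 2))).map (S.uK (n + 1)).inv ≫
        S.L (n + 1) hd ≫ (S.uK (n + 1 + 1)).hom from rfl)) ?_
    refine (Category.assoc _ _ _).symm.trans ((congrArg (· ≫ _) hnat).trans ?_)
    simp only [T, Functor.map_comp, Category.assoc]
    rw [← Functor.map_comp_assoc (Scheme.Modules.pushforward (S.i (n + 2))) (S.uK (n + 1)).hom,
      Iso.hom_inv_id, CategoryTheory.Functor.map_id, Category.id_comp]
  rw [key ha hb, key hb ha, S.push_L_L_comm n ha hb]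

variable {r : ℕ} (f : Fin r → A) (hf : Ideal.span (Set.range f) = I)

include hf in
theorem eq_zero_of_L {n : ℕ} {Z : (S.X (n + 1 + 1)).Modules} (ψ : kernel (S.ρ (n + 1)) ⟶ Z)
    (h : ∀ j, S.L n (GE14.mem_gen f hf j) ≫ ψ = 0) : ψ = 0 := by
  refine hom_eq_zero_of_affine _ fun V x => ?_
  let ι := QC70.appLinear (kernel.ι (S.ρ (n + 1))) V.1
  suffices hh : ι x ∈ (LinearMap.ker (QC70.appLinear ψ V.1)).map ι by
    obtain ⟨x', hx', e⟩ := hh
    rw [← QC70.app_injective_of_mono (kernel.ι (S.ρ (n + 1))) V.1 e]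
    exact hx'
  have h0 : (show Γ(S.X (n + 1 + 1), V.1) from ι x) ∈ (I.map (Formal27.gi A (S.X (n + 1 + 1)) V.1)) *
      (I ^ (n + 1)).map (Formal27.gi A (S.X (n + 1 + 1)) V.1) := by
    rw [← Ideal.map_mul, ← pow_succ']
    exact S.kerρ_mem (n + 1) V x
  suffices H : ∀ z : Γ(S.X (n + 1 + 1), V.1), z ∈ (I.map (Formal27.gi A (S.X (n + 1 + 1)) V.1)) *
      (I ^ (n + 1)).map (Formal27.gi A (S.X (n + 1 + 1)) V.1) →
      (show Γ(Coh.structureModule (S.X (n + 1 + 1)), V.1) from z) ∈ (LinearMap.ker (QC70.appLinear ψ V.1)).map ι from H _ h0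
  intro z hz
  refine Submodule.smul_induction_on hz (fun c hc y hy => ?_) fun a b ha hb => add_mem ha hb
  have hI : I.map (Formal27.gi A (S.X (n + 1 + 1)) V.1) =
      Ideal.span (Set.range (Formal27.gi A (S.X (n + 1 + 1)) V.1 ∘ f)) := by
    rw [Set.range_comp, ← Ideal.map_span]
    exact congrArg _ hf.symm
  rw [hI] at hc
  obtain ⟨b, rfl⟩ := (Submodule.mem_span_range_iff_exists_fun _).1 hc
  rw [Finset.sum_smul]
  refine Submodule.sum_mem _ fun j _ => ?_
  rw [smul_assoc]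
  refine Submodule.smul_mem _ _ ?_
  let W : (S.X (n + 1)).affineOpens := ⟨(S.i (n + 1)) ⁻¹ᵁ V.1, V.2.preimage _⟩
  have hy0 : (S.ρ n).app W.1 ((S.i (n + 1)).app V.1 y) = 0 := by
    have hmem : (S.i (n + 1)).app V.1 y ∈ (S.i n).ker.ideal W := by
      rw [S.ideal_ker_i]
      have hm := Ideal.mem_map_of_mem ((S.i (n + 1)).app V.1).hom hy
      rw [Ideal.map_map] at hm
      have e : ((S.i (n + 1)).app V.1).hom.comp (Formal27.gi A (S.X (n + 1 + 1)) V.1) =
          Formal27.gi A (S.X (n + 1)) W.1 := by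
        ext a
        show ((S.i (n + 1)).app V.1).hom ((S.X (n + 1 + 1)).presheaf.map (homOfLE le_top).op
            (Coh.toGlobal (S.g (n + 1 + 1)) a)) = (S.X (n + 1)).presheaf.map (homOfLE le_top).op
            (Coh.toGlobal (S.g (n + 1)) a)
        rw [← S.i_g (n + 1)]
        simp only [Coh.toGlobal, Scheme.Hom.comp_appTop, RingHom.coe_comp, Function.comp_apply, CommRingCat.hom_comp]
        exact congr(($((S.i (n + 1)).naturality (homOfLE (le_top : V.1 ≤ ⊤)).op)).hom
          ((S.g (n + 1 + 1)).appTop ((Scheme.ΓSpecIso _).inv a)))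
      rw [e] at hm
      exact hm
    rw [Scheme.Hom.ker_apply, RingHom.mem_ker] at hmem
    exact hmem
  obtain ⟨z, hz⟩ := QC70.exists_kernel_app_eq (S.ρ n) W.1 _ hy0
  let z' : Γ((Scheme.Modules.pushforward (S.i (n + 1))).obj (kernel (S.ρ n)), V.1) := z
  refine ⟨(S.L n (GE14.mem_gen f hf j)).app V.1 z',
    congrArg (fun g => (Scheme.Modules.Hom.app g V.1) z') (h j), ?_⟩
  refine (congrArg (fun g => (Scheme.Modules.Hom.app g V.1) z') (kernel.lift_ι _ _ _)).trans ?_
  refine (congrArg ((S.μ (n + 1) (GE14.mem_gen f hf j)).app V.1) hz).trans ?_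
  exact congrArg (fun g => (Scheme.Modules.Hom.app g V.1) y) (S.ρ_μ (n + 1) (GE14.mem_gen f hf j))

/-- The family of kernels on the first term. -/
def fam : GE14.GFam (S.X 0) r where
  K := S.K
  t k n := S.t n (GE14.mem_gen f hf k)
  comm i k n := S.t_comm n _ _
  coh := S.isCoh_K
  gen := by
    refine ⟨0, fun n _ Z φ hφ => ?_⟩
    haveI := QC70.faithful_pushforward (S.j (n + 2))
    apply (Scheme.Modules.pushforward (S.j (n + 2))).map_injective
    rw [Functor.map_zero, ← cancel_epi (S.uK (n + 1)).hom, comp_zero]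
    refine S.eq_zero_of_L f hf _ fun k => ?_
    rw [← cancel_epi ((Scheme.Modules.pushforward (S.i (n + 1))).map (S.uK n).inv),
      ← cancel_epi ((Scheme.Modules.pushforwardComp (S.j (n + 1)) (S.i (n + 1))).inv.app (S.K n)),
      comp_zero, comp_zero]
    have h0 := congrArg (Scheme.Modules.pushforward (S.j (n + 2))).map (hφ k)
    rw [Functor.map_comp, Functor.map_zero, S.map_t] at h0
    simp only [T, Category.assoc] at h0
    exact h0

end ThickSys

end Groth.Agent.AlgFS69
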