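import Groth.Agent.AlgFS69.Closed
import Groth.Agent.FlatMor67.ClosedNhd
import Mathlib.RingTheory.Filtration
import Mathlib.AlgebraicGeometry.Morphisms.Proper

/-! Morphisms over a complete base determined by their reductions. -/

set_option autoImplicit false
set_option linter.style.haveILetI false
set_option backward.isDefEq.respectTransparency.types false

universe u

open CategoryTheory CategoryTheory.Limits AlgebraicGeometry TopologicalSpace Opposite

noncomputable section

namespace Groth.Agent.AlgFS69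

variable {A : Type u} [CommRing A] {I : Ideal A}

theorem isPullback_thickTrans {Y : Scheme.{u}} (h : Y ⟶ Spec (CommRingCat.of A)) (k : ℕ) :
    IsPullback (CohB1.thickTrans h I k) (CohB1.thickToBase h I k) (CohB1.thickToBase h I (k + 1))
      (CohB1.specQuotTrans I k) := by
  have e1 : CohB1.thickTrans h I k ≫ CohB1.thickι h I (k + 1) = CohB1.thickι h I k :=
    (pullback.lift_fst _ _ _).trans (Category.comp_id _)
  have outer : IsPullback (CohB1.thickTrans h I k ≫ CohB1.thickι h I (k + 1)) (CohB1.thickToBase h I k)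
      h (CohB1.specQuotTrans I k ≫ CohB1.specQuot I (k + 1)) := by
    rw [e1, CohB1.specQuotTrans_specQuot]
    exact IsPullback.of_hasPullback _ _
  exact outer.of_right (pullback.lift_snd _ _ _) (IsPullback.of_hasPullback _ _)

theorem thick_hom_ext {Y T : Scheme.{u}} {h : Y ⟶ Spec (CommRingCat.of A)} {n : ℕ}
    {a b : T ⟶ CohB1.thick h I n} (h₁ : a ≫ CohB1.thickι h I n = b ≫ CohB1.thickι h I n)
    (h₂ : a ≫ CohB1.thickToBase h I n = b ≫ CohB1.thickToBase h I n) : a = b :=
  pullback.hom_ext h₁ h₂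

variable [IsAdicComplete I A] {X : Scheme.{u}} (f : X ⟶ Spec (CommRingCat.of A))

/-- An open containing the closed fibre of a universally closed scheme over a complete ring is everything. -/
theorem eq_top_of_zeroLocus_le [UniversallyClosed f] (U : X.Opens)
    (h : f ⁻¹' PrimeSpectrum.zeroLocus (I : Set A) ⊆ (U : Set X)) : U = ⊤ := by
  by_contra hne
  obtain ⟨x, hx⟩ : ((U : Set X)ᶜ).Nonempty := by
    rw [Set.nonempty_compl]
    exact fun h' => hne (Opens.ext h')
  obtain ⟨p, hp, hpc⟩ :=
    IsClosed.exists_closed_singleton (f.isClosedMap _ U.2.isClosed_compl) ⟨f x, x, hx, rfl⟩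
  obtain ⟨y, hy, rfl⟩ := hp
  refine hy (h ?_)
  show f y ∈ PrimeSpectrum.zeroLocus (I : Set A)
  have hmax := (PrimeSpectrum.isClosed_singleton_iff_isMaximal _).mp hpc
  exact (IsAdicComplete.le_jacobson_bot I).trans (sInf_le ⟨bot_le, hmax⟩)

/-- A closed subscheme containing all thickenings of the closed fibre is everything. -/
theorem eq_bot_of_le_ker_thickι [IsNoetherianRing A] [IsProper f] (K : X.IdealSheafData)
    (hK : ∀ n, K ≤ (CohB1.thickι f I n).ker) : K = ⊥ := by
  letI ov : X.Over (Spec (CommRingCat.of A)) := ⟨f⟩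
  haveI : IsLocallyNoetherian X := LocallyOfFiniteType.isLocallyNoetherian f
  haveI : ∀ k, IsClosedImmersion (CohB1.specQuot I k) := fun k =>
    IsClosedImmersion.spec_of_surjective _ Ideal.Quotient.mk_surjective
  let U : X.Opens := ⨆ V : {V : X.affineOpens // K.ideal V = ⊥}, V.1.1
  have hU : U = ⊤ := eq_top_of_zeroLocus_le f U (by
    intro x hx
    obtain ⟨V, hV, hxV, -⟩ := exists_isAffineOpen_mem_and_subset (X := X) (x := x) (U := ⊤) trivial
    haveI : IsNoetherianRing Γ(X, V) := IsLocallyNoetherian.component_noetherian ⟨V, hV⟩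
    let 𝔞 := I.map (Formal27.gi A X V)
    have hr : ∀ a ∈ K.ideal ⟨V, hV⟩, ∃ r : 𝔞, (r : Γ(X, V)) • a = a := fun a ha => by
      refine (Ideal.mem_iInf_smul_pow_eq_bot_iff 𝔞 a).1 (Submodule.mem_iInf _ |>.2 fun k => ?_)
      rw [smul_eq_mul, Ideal.mul_top]
      cases k with
      | zero => simp
      | succ n =>
        rw [← Ideal.map_pow]
        exact (ideal_ker_thickι (X := X) I n ⟨V, hV⟩).le (hK n ⟨V, hV⟩ ha)
    obtain ⟨S, hS⟩ := IsNoetherian.noetherian (K.ideal ⟨V, hV⟩)
    have hS' : ∀ a : S, (a : Γ(X, V)) ∈ K.ideal ⟨V, hV⟩ := fun a => hS ▸ Submodule.subset_span a.2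
    choose r hr using fun a : S => hr a.1 (hS' a)
    let g : Γ(X, V) := ∏ a, (1 - (r a).1)
    have hzI : ∀ b : A, b ∈ I → x ∉ X.basicOpen (Formal27.gi A X V b) := fun b hb hxb => by
      have hxb' : x ∈ X.basicOpen (X.presheaf.map (homOfLE (le_top : V ≤ ⊤)).op
          (Coh.toGlobal (X ↘ Spec (CommRingCat.of A)) b)) := hxb
      rw [Scheme.basicOpen_res] at hxb'
      have h2 := hxb'.2
      rw [show Coh.toGlobal (X ↘ Spec (CommRingCat.of A)) b =
        f.appTop ((Scheme.ΓSpecIso (CommRingCat.of A)).inv b) from rfl] at h2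
      rw [← Scheme.preimage_basicOpen_top, basicOpen_eq_of_affine] at h2
      exact h2 (hx hb)
    have h𝔞 : 𝔞 ≤ (hV.primeIdealOf ⟨x, hxV⟩).asIdeal := Ideal.map_le_iff_le_comap.2 fun b hb => by
      by_contra hb'
      exact hzI b hb ((QCSupp72.mem_basicOpen_iff_notMem hV hxV _).2 hb')
    have hxg : x ∈ X.basicOpen g := (QCSupp72.mem_basicOpen_iff_notMem hV hxV _).2 fun hg => by
      obtain ⟨a, -, ha⟩ := (hV.primeIdealOf ⟨x, hxV⟩).isPrime.prod_mem_iff.1 hg
      refine (hV.primeIdealOf ⟨x, hxV⟩).isPrime.ne_top ((Ideal.eq_top_iff_one _).2 ?_)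
      simpa using add_mem ha (h𝔞 (r a).2)
    refine Opens.mem_iSup.2 ⟨⟨X.affineBasicOpen (U := ⟨V, hV⟩) g, ?_⟩, hxg⟩
    rw [← K.map_ideal_basicOpen]
    refine (Ideal.map_eq_bot_iff_le_ker _).2 ?_
    rw [← hS]
    refine Submodule.span_le.2 ?_
    intro a ha
    refine RingHom.mem_ker.2 ?_
    have hga : g * a = 0 := by
      have h1 : (1 - (r ⟨a, ha⟩).1) * a = 0 := by
        have e : (r ⟨a, ha⟩).1 * a = a := hr ⟨a, ha⟩
        rw [sub_mul, one_mul, e, sub_self]
      obtain ⟨c, hc⟩ : (1 - (r ⟨a, ha⟩).1) ∣ g := Finset.dvd_prod_of_mem _ (Finset.mem_univ _)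
      rw [hc, mul_right_comm, h1, zero_mul]
    have hu : IsUnit ((X.presheaf.map (homOfLE (X.basicOpen_le g)).op).hom g) :=
      RingedSpace.isUnit_res_basicOpen _ g
    refine hu.mul_right_eq_zero.1 ?_
    rw [← map_mul, hga, map_zero])
  refine Scheme.IdealSheafData.ext_of_iSup_eq_top (fun V : {V : X.affineOpens // K.ideal V = ⊥} => V.1) hU
    fun V => ?_
  rw [V.2, Scheme.IdealSheafData.ideal_bot]
  rfl

/-- A proper morphism to a proper scheme over a complete ring which is an isomorphism modulo all powers of the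
ideal is an isomorphism. -/
theorem isIso_of_isPullback_thickι [IsNoetherianRing A] [IsProper f] {W : Scheme.{u}} (π : W ⟶ X) [IsProper π]
    (w : (n : ℕ) → (CohB1.thick f I n ⟶ W))
    (h : ∀ n, IsPullback (w n) (𝟙 _) π (CohB1.thickι f I n)) : IsIso π := by
  haveI : ∀ k, IsClosedImmersion (CohB1.specQuot I k) := fun k =>
    IsClosedImmersion.spec_of_surjective _ Ideal.Quotient.mk_surjective
  haveI : ∀ k, IsClosedImmersion (CohB1.thickι f I k) := fun k =>
    MorphismProperty.pullback_fst (P := @IsClosedImmersion) _ _ inferInstance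
  let U : X.Opens := ⨆ V : {V : X.Opens // IsClosedImmersion (π ∣_ V)}, V.1
  have hU : U = ⊤ := eq_top_of_zeroLocus_le f U (by
    intro x hx
    obtain ⟨y, rfl⟩ : x ∈ Set.range (CohB1.thickι f I 0) := by
      refine (Scheme.Pullback.range_fst f (CohB1.specQuot I 0)).ge ?_
      show f x ∈ Set.range (CohB1.specQuot I 0)
      refine (range_comap_of_surjective (A ⧸ I ^ (0 + 1))
        (Ideal.Quotient.mk (I ^ (0 + 1))) Ideal.Quotient.mk_surjective).ge ?_
      rw [Ideal.mk_ker, zero_add, pow_one]
      exact hx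
    obtain ⟨V, hxV, hV⟩ := (FlatMor67.ClosedNhd.closedImmersion_nhd_iff π (CohB1.thickι f I 0 y)).2
      ⟨Or.inr (by
        let c := CohB1.thickι f I 0
        haveI : IsIso (c.residueFieldMap y) := by
          refine (ConcreteCategory.isIso_iff_bijective _).2 ⟨RingHom.injective _, fun z => ?_⟩
          obtain ⟨z, rfl⟩ := IsLocalRing.residue_surjective z
          obtain ⟨z, rfl⟩ := c.stalkMap_surjective y z
          exact ⟨X.residue (c y) z, congr($(Scheme.residue_residueFieldMap c y) z)⟩
        let s := inv (Spec.map (c.residueFieldMap y)) ≫ (CohB1.thick f I 0).fromSpecResidueField y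
        have hs : s ≫ c = X.fromSpecResidueField (c y) := by
          rw [Category.assoc, IsIso.inv_comp_eq, Scheme.Hom.SpecMap_residueFieldMap_fromSpecResidueField]
        have sq : IsPullback (s ≫ w 0) (𝟙 (Spec (X.residueField (c y)))) π (X.fromSpecResidueField (c y)) := by
          rw [← hs]
          exact (IsPullback.of_vert_isIso (show CommSq s (𝟙 _) (𝟙 _) s from ⟨by simp⟩)).paste_horiz (h 0)
        rw [show π.fiberToSpecResidueField (c y) = sq.isoPullback.inv ≫ 𝟙 _ from
          sq.isoPullback_inv_snd.symm, Category.comp_id]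
        exact Iso.isIso_inv sq.isoPullback), ⊤, trivial, inferInstance⟩
    exact Opens.mem_iSup.2 ⟨⟨V, hV⟩, hxV⟩)
  haveI : IsClosedImmersion π := IsZariskiLocalAtTarget.of_iSup_eq_top
    (fun V : {V : X.Opens // IsClosedImmersion (π ∣_ V)} => V.1) hU fun V => V.2
  rw [IsClosedImmersion.isIso_iff_ker_eq_bot]
  refine eq_bot_of_le_ker_thickι (I := I) f π.ker fun n => ?_
  rw [show CohB1.thickι f I n = w n ≫ π from (Category.id_comp _).symm.trans (h n).w.symm]
  exact Scheme.Hom.le_ker_comp _ _

/-- Compatible morphisms of reductions come from a morphism. -/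
theorem exists_morphism_algebraization [IsNoetherianRing A] [IsProper f] {Y : Scheme.{u}}
    (h : Y ⟶ Spec (CommRingCat.of A)) [IsSeparated h] [LocallyOfFiniteType h]
    [QuasiCompact h] (g : (n : ℕ) → (CohB1.thick f I n ⟶ CohB1.thick h I n))
    (hg₁ : ∀ n, g n ≫ CohB1.thickToBase h I n = CohB1.thickToBase f I n)
    (hg₂ : ∀ n, CohB1.thickTrans f I n ≫ g (n + 1) = g n ≫ CohB1.thickTrans h I n) :
    ∃ φ : X ⟶ Y, φ ≫ h = f ∧ ∀ n, CohB1.thickι f I n ≫ φ = g n ≫ CohB1.thickι h I n := by
  let p := pullback.fst f h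
  let q := pullback.snd f h
  let ψ : pullback f h ⟶ Spec (CommRingCat.of A) := p ≫ f
  haveI : IsSeparated p := MorphismProperty.pullback_fst (P := @IsSeparated) _ _ inferInstance
  haveI : LocallyOfFiniteType p := MorphismProperty.pullback_fst (P := @LocallyOfFiniteType) _ _ inferInstance
  haveI : QuasiCompact p := MorphismProperty.pullback_fst (P := @QuasiCompact) _ _ inferInstance
  have hcond : ∀ n, CohB1.thickι f I n ≫ f = (g n ≫ CohB1.thickι h I n) ≫ h := fun n => by
    refine (pullback.condition (f := f) (g := CohB1.specQuot I n)).trans ?_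
    refine ((congrArg (· ≫ CohB1.specQuot I n) (hg₁ n)).symm.trans ?_).trans (Category.assoc _ _ _).symm
    refine (Category.assoc _ _ _).trans ?_
    exact congrArg (g n ≫ ·) (pullback.condition (f := h) (g := CohB1.specQuot I n)).symm
  let z : (n : ℕ) → (CohB1.thick f I n ⟶ CohB1.thick ψ I n) := fun n =>
    pullback.lift (pullback.lift (CohB1.thickι f I n) (g n ≫ CohB1.thickι h I n) (hcond n))
      (CohB1.thickToBase f I n) (by
        rw [← Category.assoc, pullback.lift_fst]
        exact pullback.condition)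
  have hz₁ : ∀ n, z n ≫ CohB1.thickι ψ I n =
      pullback.lift (CohB1.thickι f I n) (g n ≫ CohB1.thickι h I n) (hcond n) :=
    fun n => pullback.lift_fst _ _ _
  have hz₂ : ∀ n, z n ≫ CohB1.thickToBase ψ I n = CohB1.thickToBase f I n := fun n => pullback.lift_snd _ _ _
  let r : (n : ℕ) → (CohB1.thick ψ I n ⟶ CohB1.thick f I n) := fun n =>
    pullback.map ψ (CohB1.specQuot I n) f (CohB1.specQuot I n) p (𝟙 _) (𝟙 _)
      (Category.comp_id _) ((Category.comp_id _).trans (Category.id_comp _).symm)
  have hr₁ : ∀ n, r n ≫ CohB1.thickι f I n = CohB1.thickι ψ I n ≫ p := fun n => pullback.lift_fst _ _ _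
  have hr₂ : ∀ n, r n ≫ CohB1.thickToBase f I n = CohB1.thickToBase ψ I n := fun n =>
    (pullback.lift_snd _ _ _).trans (Category.comp_id _)
  have hzr : ∀ n, z n ≫ r n = 𝟙 _ := fun n => thick_hom_ext
    (by rw [Category.assoc, hr₁, reassoc_of% (hz₁ n), pullback.lift_fst, Category.id_comp])
    (by rw [Category.assoc, hr₂, hz₂, Category.id_comp])
  have hrsq : ∀ n, IsPullback (CohB1.thickι ψ I n) (r n) p (CohB1.thickι f I n) := fun n => by
    refine IsPullback.of_bot ?_ (hr₁ n).symm (IsPullback.of_hasPullback f (CohB1.specQuot I n))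
    rw [hr₂]
    exact IsPullback.of_hasPullback ψ (CohB1.specQuot I n)
  haveI : ∀ n, IsSeparated (r n) := fun n =>
    MorphismProperty.of_isPullback (P := @IsSeparated) (hrsq n) inferInstance
  have hz : ∀ n, IsClosedImmersion (z n) := fun n => by
    haveI : IsClosedImmersion (z n ≫ r n) := by rw [hzr]; infer_instance
    exact IsClosedImmersion.of_comp (z n) (r n)
  have ht : ∀ n, IsPullback (CohB1.thickTrans f I n) (z n) (z (n + 1)) (CohB1.thickTrans ψ I n) := fun n => by
    refine IsPullback.of_bot ?_ ?_ (isPullback_thickTrans ψ n)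
    · rw [hz₂, hz₂]
      exact isPullback_thickTrans f n
    · refine thick_hom_ext ?_ ?_
      · rw [Category.assoc, Category.assoc, hz₁]
        rw [show CohB1.thickTrans ψ I n ≫ CohB1.thickι ψ I (n + 1) = CohB1.thickι ψ I n from
          (pullback.lift_fst _ _ _).trans (Category.comp_id _), hz₁]
        refine pullback.hom_ext ?_ ?_
        · rw [Category.assoc, pullback.lift_fst, pullback.lift_fst]
          exact (pullback.lift_fst _ _ _).trans (Category.comp_id _)
        · rw [Category.assoc, pullback.lift_snd, pullback.lift_snd, reassoc_of% (hg₂ n)]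
          exact congrArg (g n ≫ ·) ((pullback.lift_fst _ _ _).trans (Category.comp_id _))
      · rw [Category.assoc, Category.assoc]
        refine (congrArg (CohB1.thickTrans f I n ≫ ·) (hz₂ (n + 1))).trans ?_
        rw [(isPullback_thickTrans ψ n).w, reassoc_of% (hz₂ n)]
        exact (isPullback_thickTrans f n).w
  haveI : IsProper (z 0 ≫ CohB1.thickToBase ψ I 0) := by
    rw [hz₂]
    exact MorphismProperty.pullback_snd (P := @IsProper) _ _ inferInstance
  obtain ⟨W, i, w, hi, hip, -, hw⟩ := exists_closed_algebraization A I ψ _ z _ hz ht inferInstance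
  let π := i ≫ p
  haveI : IsProper (π ≫ f) := by
    rw [Category.assoc]
    exact hip
  haveI : IsProper π := IsProper.of_comp π f
  have hsq : ∀ n, IsPullback (w n) (𝟙 _) π (CohB1.thickι f I n) := fun n => by
    have e := (hw n).paste_vert (hrsq n)
    rwa [hzr] at e
  haveI := isIso_of_isPullback_thickι f π w hsq
  refine ⟨inv π ≫ i ≫ q, ?_, fun n => ?_⟩
  · rw [Category.assoc, IsIso.inv_comp_eq, Category.assoc]
    show i ≫ q ≫ h = (i ≫ p) ≫ f
    rw [Category.assoc]
    exact congrArg (i ≫ ·) pullback.condition.symm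
  · have e : CohB1.thickι f I n ≫ inv π = w n := by
      rw [IsIso.comp_inv_eq]
      exact (Category.id_comp _).symm.trans (hsq n).w.symm
    rw [reassoc_of% e, reassoc_of% (hw n).w, reassoc_of% (hz₁ n)]
    exact pullback.lift_snd _ _ _

end Groth.Agent.AlgFS69

end
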