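import Groth.Agent.Var76.ZeroScheme
import Groth.Agent.QC70.DevissageAux
import Groth.Agent.Formal27.Affine
import Groth.Agent.Formal27.Pullback
import Groth.Agent.Crv77.IdealSeq
import Groth.Agent.QC70.PushClosed
import Groth.Agent.QC70.CohOps
import Groth.Agent.MP99.Basic
import Groth.Agent.Algz14.Completion
import Groth.Prelude.Def_CohB1
import Mathlib.RingTheory.Nakayama

/-! Formal systems of quotients of the structure sheaf, and ideals of thickenings. -/

set_option autoImplicit false
set_option linter.style.haveILetI false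
set_option backward.isDefEq.respectTransparency.types false

universe u

open CategoryTheory CategoryTheory.Limits AlgebraicGeometry TopologicalSpace Opposite

noncomputable section

namespace Groth.Agent.AlgFS69

/-- A finite module with cyclic reduction: the ideal of a reduction is the annihilator plus the power. -/
theorem mem_annihilator_sup {R M N : Type u} [CommRing R] [AddCommGroup M] [Module R M] [Module.Finite R M]
    [AddCommGroup N] [Module R N] (𝔞 J : Ideal R) (m : ℕ) (p : M →ₗ[R] N) (q : R →ₗ[R] N)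
    (hq : Function.Surjective q) (hp : Function.Surjective p)
    (hkp : ∀ x, p x = 0 ↔ x ∈ 𝔞 ^ (m + 1) • (⊤ : Submodule R M)) (hkq : ∀ a, q a = 0 ↔ a ∈ J) :
    J ≤ Module.annihilator R M ⊔ 𝔞 ^ (m + 1) ∧ Module.annihilator R M ≤ J := by
  obtain ⟨e, he⟩ := hp (q 1)
  have hqa : ∀ a : R, p (a • e) = q a := fun a => by
    rw [map_smul, he, ← map_smul, smul_eq_mul, mul_one]
  refine ⟨fun a ha => ?_, fun a ha => (hkq a).1 ?_⟩
  swap
  · rw [← hqa, Module.mem_annihilator.1 ha, map_zero]
  have hae : a • e ∈ 𝔞 ^ (m + 1) • (⊤ : Submodule R M) := (hkp _).1 (by rw [hqa, (hkq a).2 ha])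
  let Q := M ⧸ Submodule.span R {e}
  have htop : (⊤ : Submodule R Q) ≤ 𝔞 • ⊤ := fun y _ => by
    obtain ⟨x, rfl⟩ := Submodule.Quotient.mk_surjective _ y
    obtain ⟨c, hc⟩ := hq (p x)
    have h1 : x - c • e ∈ 𝔞 • (⊤ : Submodule R M) :=
      Submodule.smul_mono_left (Ideal.pow_le_self (Nat.succ_ne_zero m))
        ((hkp _).1 (by rw [map_sub, hqa, hc, sub_self]))
    have h2 := Submodule.mem_map_of_mem (f := (Submodule.span R {e}).mkQ) h1
    rw [Submodule.map_smul'', map_sub, map_smul,
      show (Submodule.span R {e}).mkQ e = 0 from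
        (Submodule.Quotient.mk_eq_zero _).2 (Submodule.mem_span_singleton_self e), smul_zero, sub_zero] at h2
    exact Submodule.smul_mono le_rfl le_top h2
  obtain ⟨r, hr1, hr⟩ :=
    Submodule.exists_sub_one_mem_and_smul_eq_zero_of_fg_of_le_smul 𝔞 (⊤ : Submodule R Q) Module.Finite.fg_top htop
  have hrM : ∀ x : M, r • x ∈ Submodule.span R {e} := fun x => by
    rw [← Submodule.Quotient.mk_eq_zero, Submodule.Quotient.mk_smul]
    exact hr _ trivial
  obtain ⟨c, hc, hce⟩ : ∃ c ∈ 𝔞 ^ (m + 1), c • e = r • a • e := by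
    refine Submodule.smul_induction_on (p := fun z => ∃ c ∈ 𝔞 ^ (m + 1), c • e = r • z) hae
      (fun b hb x _ => ?_) ?_
    · obtain ⟨d, hd⟩ := Submodule.mem_span_singleton.1 (hrM x)
      exact ⟨b * d, Ideal.mul_mem_right _ _ hb, by rw [mul_smul, hd, smul_comm]⟩
    · rintro x y ⟨c, hc, h⟩ ⟨d, hd, h'⟩
      exact ⟨c + d, add_mem hc hd, by rw [add_smul, h, h', smul_add]⟩
  have hann : r * (r * a - c) ∈ Module.annihilator R M := by
    refine Module.mem_annihilator.2 fun x => ?_
    obtain ⟨d, hd⟩ := Submodule.mem_span_singleton.1 (hrM x)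
    have h0 : (r * a - c) • e = 0 := by rw [sub_smul, mul_smul, ← hce, sub_self]
    rw [mul_comm, mul_smul, ← hd, smul_comm, h0, smul_zero]
  have hrr : r * r * a ∈ Module.annihilator R M ⊔ 𝔞 ^ (m + 1) := by
    rw [show r * r * a = r * (r * a - c) + r * c from by ring]
    exact add_mem (Ideal.mem_sup_left hann) (Ideal.mem_sup_right (Ideal.mul_mem_left _ _ hc))
  have hu : IsUnit (Ideal.Quotient.mk (𝔞 ^ (m + 1)) r) := by
    have hn : IsNilpotent (Ideal.Quotient.mk (𝔞 ^ (m + 1)) (r - 1)) :=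
      ⟨m + 1, by rw [← map_pow]; exact Ideal.Quotient.eq_zero_iff_mem.2 (Ideal.pow_mem_pow hr1 _)⟩
    rw [map_sub, map_one] at hn
    simpa using hn.isUnit_add_one
  obtain ⟨s, hs⟩ := hu.exists_right_inv
  obtain ⟨s, rfl⟩ := Ideal.Quotient.mk_surjective s
  have hs' : 1 - r * s ∈ 𝔞 ^ (m + 1) := by
    rw [← Ideal.Quotient.eq_zero_iff_mem, map_sub, map_one, map_mul, hs, sub_self]
  have hrs : 1 - r * s * (r * s) ∈ 𝔞 ^ (m + 1) := by
    rw [show 1 - r * s * (r * s) = (1 - r * s) * (1 + r * s) from by ring]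
    exact Ideal.mul_mem_right _ _ hs'
  rw [show a = s * s * (r * r * a) + (1 - r * s * (r * s)) * a from by ring]
  exact add_mem (Ideal.mul_mem_left _ _ hrr) (Ideal.mem_sup_right (Ideal.mul_mem_right _ _ hrs))

variable {X : Scheme.{u}}

/-- Sections killed by `O ⟶ O/J` on affines. -/
theorem toSub_app_eq_zero_iff (J : X.IdealSheafData) (V : X.affineOpens) (x : Γ(X, V.1)) :
    (ClSub.toSubscheme J).app V.1 (QC70.toUnit x) = 0 ↔ x ∈ J.ideal V := by
  conv_rhs => rw [← J.ker_subschemeι, Scheme.Hom.ker_apply, RingHom.mem_ker]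
  rfl

theorem toSub_app_surjective (J : X.IdealSheafData) (V : X.affineOpens) :
    Function.Surjective ((ClSub.toSubscheme J).app V.1) := fun y => by
  obtain ⟨x, hx⟩ := J.subschemeι.app_surjective V.1 V.2 y
  exact ⟨x, hx⟩

/-- A map out of the structure sheaf killing an ideal sheaf on affines kills the kernel. -/
theorem kernel_ι_comp_eq_zero (J : X.IdealSheafData) {N : X.Modules} (φ : Coh.structureModule X ⟶ N)
    (h : ∀ (V : X.affineOpens) (x : Γ(X, V.1)), x ∈ J.ideal V → φ.app V.1 (QC70.toUnit x) = 0) :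
    kernel.ι (ClSub.toSubscheme J) ≫ φ = 0 := by
  refine Scheme.Modules.hom_ext _ _ fun W => ?_
  ext y
  refine Var76.ZeroScheme.eq_of_locally N _ _ fun p hp => ?_
  obtain ⟨V, hV, hpV, hVW⟩ := exists_isAffineOpen_mem_and_subset (x := p) (U := W) hp
  refine ⟨V, hVW, hpV, ?_⟩
  show QC70.res N hVW ((kernel.ι (ClSub.toSubscheme J) ≫ φ).app W y) = QC70.res N hVW 0
  rw [QC70.res_zero, ← QC70.app_res]
  let y' := QC70.res (kernel (ClSub.toSubscheme J)) hVW y
  have h0 : (kernel.ι (ClSub.toSubscheme J) ≫ ClSub.toSubscheme J).app V y' = 0 := by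
    rw [kernel.condition]; rfl
  exact h ⟨V, hV⟩ _ ((toSub_app_eq_zero_iff J ⟨V, hV⟩ _).1 h0)

/-- A map out of the structure sheaf killing an ideal sheaf factors through the quotient. -/
theorem exists_quot_desc (J : X.IdealSheafData) {N : X.Modules} (φ : Coh.structureModule X ⟶ N)
    (h : ∀ (V : X.affineOpens) (x : Γ(X, V.1)), x ∈ J.ideal V → φ.app V.1 (QC70.toUnit x) = 0) :
    ∃ ψ : ClSub.quotMod J ⟶ N, ClSub.toSubscheme J ≫ ψ = φ :=
  haveI := Crv77.epi_toSubscheme J
  ⟨Abelian.epiDesc _ φ (kernel_ι_comp_eq_zero J φ h), Abelian.comp_epiDesc _ _ _⟩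

theorem isCoh_quotMod [IsLocallyNoetherian X] (J : X.IdealSheafData) : Coh.IsCoh (ClSub.quotMod J) :=
  haveI : IsLocallyNoetherian J.subscheme := LocallyOfFiniteType.isLocallyNoetherian J.subschemeι
  QC70.isCoh_pushforward J.subschemeι _ QC70.isCoh_unit

section Sys

variable (J : ℕ → X.IdealSheafData) (hle : ∀ n, J (n + 1) ≤ J n)

include hle in
theorem exists_quotTr (n : ℕ) :
    ∃ ψ : ClSub.quotMod (J (n + 1)) ⟶ ClSub.quotMod (J n),
      ClSub.toSubscheme (J (n + 1)) ≫ ψ = ClSub.toSubscheme (J n) :=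
  exists_quot_desc _ _ fun V x hx => (toSub_app_eq_zero_iff _ V x).2 (hle n V hx)

/-- The transition maps. -/
def quotTr (n : ℕ) : ClSub.quotMod (J (n + 1)) ⟶ ClSub.quotMod (J n) := (exists_quotTr J hle n).choose

theorem toSub_quotTr (n : ℕ) :
    ClSub.toSubscheme (J (n + 1)) ≫ quotTr J hle n = ClSub.toSubscheme (J n) :=
  (exists_quotTr J hle n).choose_spec

/-- The system of quotients. -/
def quotSys : ℕᵒᵖ ⥤ X.Modules := Functor.ofOpSequence (X := fun n => ClSub.quotMod (J n)) (quotTr J hle)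

variable {A : Type u} [CommRing A] [X.Over (Spec (CommRingCat.of A))] (I : Ideal A)

/-- Quotients by a compatible family of ideals form a coherent formal system. -/
theorem isCohFormal_quotSys [IsLocallyNoetherian X]
    (hT : ∀ (n : ℕ) (V : X.affineOpens), (I ^ (n + 1)).map (Formal27.gi A X V.1) ≤ (J n).ideal V)
    (hJ : ∀ (n : ℕ) (V : X.affineOpens),
      (J n).ideal V ≤ (J (n + 1)).ideal V ⊔ (I ^ (n + 1)).map (Formal27.gi A X V.1)) :
    Formal.IsCohFormal I (quotSys J hle) := by
  have hkill : ∀ (n : ℕ), ∀ a ∈ I ^ (n + 1),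
      Formal.smulMod A (Coh.structureModule X) a ≫ ClSub.toSubscheme (J n) = 0 := fun n a ha => by
    refine Scheme.Modules.hom_ext _ _ fun W => ?_
    ext x
    refine Var76.ZeroScheme.eq_of_locally _ _ _ fun p hp => ?_
    obtain ⟨V, hV, hpV, hVW⟩ := exists_isAffineOpen_mem_and_subset (x := p) (U := W) hp
    refine ⟨V, hVW, hpV, ?_⟩
    show QC70.res _ hVW ((Formal.smulMod A (Coh.structureModule X) a ≫ ClSub.toSubscheme (J n)).app W x) =
      QC70.res _ hVW 0
    rw [QC70.res_zero, ← QC70.app_res]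
    exact (toSub_app_eq_zero_iff _ ⟨V, hV⟩ _).2
      (Ideal.mul_mem_right _ _ (hT n ⟨V, hV⟩ (Ideal.mem_map_of_mem _ ha)))
  refine ⟨fun n => isCoh_quotMod (J n), fun n a ha => ?_, fun n => ?_⟩
  · haveI := Crv77.epi_toSubscheme (J n)
    refine (cancel_epi (ClSub.toSubscheme (J n))).1 ?_
    refine (Formal27.smulMod_comp (ClSub.toSubscheme (J n)) a).trans ?_
    exact (hkill n a ha).trans comp_zero.symm
  · have hmap : (quotSys J hle).map (homOfLE (Nat.le_succ n)).op = quotTr J hle n :=
      Functor.ofOpSequence_map_homOfLE_succ _ n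
    haveI := Crv77.epi_toSubscheme (J n)
    haveI := Crv77.epi_toSubscheme (J (n + 1))
    haveI : Epi ((quotSys J hle).map (homOfLE (Nat.le_succ n)).op) := by
      rw [hmap]
      exact @epi_of_epi_fac _ _ _ _ _ _ _ _ (Crv77.epi_toSubscheme (J n)) (toSub_quotTr J hle n)
    have h : Formal.smulFamily (I ^ (n + 1)) (ClSub.quotMod (J (n + 1))) ≫
        (quotSys J hle).map (homOfLE (Nat.le_succ n)).op = 0 :=
      Formal27.smulFamily_comp_eq_zero _ fun a ha => by
        rw [hmap]
        refine (cancel_epi (ClSub.toSubscheme (J (n + 1)))).1 ?_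
        refine (reassoc_of% (Formal27.smulMod_comp (ClSub.toSubscheme (J (n + 1))) a)) (quotTr J hle n) |>.trans ?_
        refine (congrArg (Formal.smulMod A (Coh.structureModule X) a ≫ ·) (toSub_quotTr J hle n)).trans ?_
        exact (hkill n a ha).trans comp_zero.symm
    let π' := cokernel.π (Formal.smulFamily (I ^ (n + 1)) (ClSub.quotMod (J (n + 1))))
    obtain ⟨v, hv⟩ := exists_quot_desc (J n) (ClSub.toSubscheme (J (n + 1)) ≫ π') (fun V x hx => by
      obtain ⟨y, hy, z, hz, rfl⟩ := Submodule.mem_sup.1 (hJ n V hx)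
      let ψ : Γ(Coh.structureModule X, V.1) →+ Γ(Formal.modPow I (n + 1) (ClSub.quotMod (J (n + 1))), V.1) :=
        ((ClSub.toSubscheme (J (n + 1)) ≫ π').app V.1).hom
      have h1 : ψ (QC70.toUnit y) = 0 := by
        show π'.app V.1 ((ClSub.toSubscheme (J (n + 1))).app V.1 (QC70.toUnit y)) = 0
        rw [(toSub_app_eq_zero_iff _ V y).2 hy, map_zero]
      suffices h2 : ψ (QC70.toUnit z) = 0 by
        show ψ (QC70.toUnit y + QC70.toUnit z) = 0
        rw [map_add, h1, h2, add_zero]
      clear hx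
      induction hz using Submodule.span_induction with
      | mem r hr =>
        obtain ⟨a, ha, rfl⟩ := hr
        have e : Formal.smulMod A (Coh.structureModule X) a ≫ ClSub.toSubscheme (J (n + 1)) ≫ π' = 0 := by
          rw [← Category.assoc, ← Formal27.smulMod_comp, Category.assoc]
          exact (congrArg (ClSub.toSubscheme (J (n + 1)) ≫ ·) (Formal27.smulMod_modPowπ I (n + 1) _ ha)).trans
            comp_zero
        have e' := congrArg (fun φ => (Scheme.Modules.Hom.app φ V.1) (QC70.toUnit (1 : Γ(X, V.1)))) e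
        refine Eq.trans ?_ e'
        show ψ (QC70.toUnit (Formal27.gi A X V.1 a)) = ψ (Formal27.gi A X V.1 a • QC70.toUnit 1)
        rw [QC70.smul_unit]
        simp
      | zero => exact map_zero ψ
      | add r s _ _ hr hs =>
        show ψ (QC70.toUnit r + QC70.toUnit s) = 0
        rw [map_add, hr, hs, add_zero]
      | smul c r _ hr =>
        show ψ (c • QC70.toUnit r) = 0
        refine (Scheme.Modules.Hom.app_smul _ c _).trans ?_
        refine (congrArg (fun w : Γ(Formal.modPow I (n + 1) (ClSub.quotMod (J (n + 1))), V.1) => c • w) hr).trans ?_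
        exact smul_zero c)
    refine ⟨h, Formal27.isIso_desc_of_factor _ ((quotSys J hle).map (homOfLE (Nat.le_succ n)).op) h v ?_⟩
    refine (cancel_epi (ClSub.toSubscheme (J (n + 1)))).1 ?_
    rw [hmap]
    exact ((Category.assoc _ _ _).symm.trans (congrArg (· ≫ v) (toSub_quotTr J hle n))).trans hv

end Sys

section Thick

variable {A : Type u} [CommRing A] [ov : X.Over (Spec (CommRingCat.of A))] (I : Ideal A)

/-- The ideal of a thickening on affines. -/
theorem ideal_ker_thickι (n : ℕ) (V : X.affineOpens) :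
    (CohB1.thickι (X ↘ Spec (CommRingCat.of A)) I n).ker.ideal V = (I ^ (n + 1)).map (Formal27.gi A X V.1) := by
  let s := X ↘ Spec (CommRingCat.of A)
  haveI : IsClosedImmersion (CohB1.specQuot I n) :=
    IsClosedImmersion.spec_of_surjective _ Ideal.Quotient.mk_surjective
  let U : (Spec (CommRingCat.of A)).affineOpens := ⟨⊤, isAffineOpen_top _⟩
  have e : V.1 ≤ s ⁻¹ᵁ U.1 := fun _ _ => trivial
  have hk : (CohB1.specQuot I n).ker.ideal U = (I ^ (n + 1)).map (Scheme.ΓSpecIso (CommRingCat.of A)).inv.hom := by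
    rw [Scheme.Hom.ker_apply]
    let φ : CommRingCat.of A ⟶ CommRingCat.of (A ⧸ I ^ (n + 1)) :=
      CommRingCat.ofHom (Ideal.Quotient.mk (I ^ (n + 1)))
    have hnat : ∀ a, (Spec.map φ).appTop ((Scheme.ΓSpecIso (CommRingCat.of A)).inv a) =
        (Scheme.ΓSpecIso (CommRingCat.of (A ⧸ I ^ (n + 1)))).inv (φ a) := fun a =>
      (congr($(Scheme.ΓSpecIso_inv_naturality φ) a)).symm
    have hinj : Function.Injective (Scheme.ΓSpecIso (CommRingCat.of (A ⧸ I ^ (n + 1)))).inv :=
      (ConcreteCategory.bijective_of_isIso _).1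
    ext x
    obtain ⟨a, rfl⟩ := (ConcreteCategory.bijective_of_isIso (Scheme.ΓSpecIso (CommRingCat.of A)).inv).2 x
    rw [RingHom.mem_ker, Ideal.mem_map_iff_of_surjective _
      (ConcreteCategory.bijective_of_isIso (Scheme.ΓSpecIso (CommRingCat.of A)).inv).2]
    constructor
    · intro h
      refine ⟨a, Ideal.Quotient.eq_zero_iff_mem.1 (hinj ?_), rfl⟩
      rw [map_zero]
      exact (hnat a).symm.trans h
    · rintro ⟨b, hb, hba⟩
      rw [← (ConcreteCategory.bijective_of_isIso (Scheme.ΓSpecIso (CommRingCat.of A)).inv).1 hba]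
      refine (hnat b).trans ?_
      rw [show φ b = 0 from Ideal.Quotient.eq_zero_iff_mem.2 hb, map_zero]
      rfl
  rw [show (CohB1.thickι s I n).ker = (CohB1.specQuot I n).ker.comap s from
      Scheme.IdealSheafData.ker_fst_of_isClosedImmersion _ _,
    MP99.ideal_comap _ s U V e, hk, Ideal.map_map]
  congr 1

/-- A thickening is the base change of the next one. -/
theorem isPullback_thickTrans_ι (n : ℕ) :
    IsPullback (CohB1.thickTrans (X ↘ Spec (CommRingCat.of A)) I n) (𝟙 _)
      (CohB1.thickι (X ↘ Spec (CommRingCat.of A)) I (n + 1))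
      (CohB1.thickι (X ↘ Spec (CommRingCat.of A)) I n) := by
  let s := X ↘ Spec (CommRingCat.of A)
  haveI : ∀ k, IsClosedImmersion (CohB1.specQuot I k) := fun k =>
    IsClosedImmersion.spec_of_surjective _ Ideal.Quotient.mk_surjective
  haveI : ∀ k, IsClosedImmersion (CohB1.thickι s I k) := fun k =>
    MorphismProperty.pullback_fst (P := @IsClosedImmersion) _ _ inferInstance
  have hw : CohB1.thickTrans s I n ≫ CohB1.thickι s I (n + 1) = CohB1.thickι s I n :=
    (pullback.lift_fst _ _ _).trans (Category.comp_id _)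
  refine ⟨⟨by rw [Category.id_comp]; exact hw⟩, ⟨PullbackCone.IsLimit.mk _ (fun c => c.snd) (fun c => ?_)
    (fun c => Category.comp_id _) (fun c m _ h => (Category.comp_id m).symm.trans h)⟩⟩
  rw [← cancel_mono (CohB1.thickι s I (n + 1)), Category.assoc, hw]
  exact c.condition.symm

end Thick

/-- The ideal of the intersection of two closed subschemes. -/
theorem ker_pullback_fst_comp {Y Z : Scheme.{u}} (ιY : Y ⟶ X) (ιZ : Z ⟶ X) [IsClosedImmersion ιY]
    [IsClosedImmersion ιZ] : (pullback.fst ιY ιZ ≫ ιY).ker = ιY.ker ⊔ ιZ.ker := by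
  set T := ιY.ker ⊔ ιZ.ker with hT
  refine le_antisymm ?_ (sup_le (Scheme.Hom.le_ker_comp _ _) ?_)
  · have h1 : ιY.ker ≤ T.subschemeι.ker := by rw [Scheme.IdealSheafData.ker_subschemeι]; exact le_sup_left
    have h2 : ιZ.ker ≤ T.subschemeι.ker := by rw [Scheme.IdealSheafData.ker_subschemeι]; exact le_sup_right
    let l : T.subscheme ⟶ pullback ιY ιZ := pullback.lift (IsClosedImmersion.lift ιY _ h1)
      (IsClosedImmersion.lift ιZ _ h2) (by rw [IsClosedImmersion.lift_fac, IsClosedImmersion.lift_fac])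
    calc (pullback.fst ιY ιZ ≫ ιY).ker ≤ (l ≫ pullback.fst ιY ιZ ≫ ιY).ker := Scheme.Hom.le_ker_comp _ _
      _ = T := by
        rw [← Category.assoc, pullback.lift_fst, IsClosedImmersion.lift_fac,
          Scheme.IdealSheafData.ker_subschemeι]
  · rw [pullback.condition]
    exact Scheme.Hom.le_ker_comp _ _

end Groth.Agent.AlgFS69

end
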