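import Groth.Agent.AlgFS69.KerFam
import Groth.Agent.GE14.AmpleEpi
import Groth.Agent.Var76.RegPow
import Groth.Agent.ValVan29.PushTwist
import Groth.Agent.Coh69.AffinePush
import Groth.Agent.RB70.AmpleVanish

/-! Sections of high powers lift along the thickenings. -/

set_option autoImplicit false
set_option linter.style.haveILetI false
set_option linter.unusedSectionVars false
set_option backward.isDefEq.respectTransparency.types false

universe u

open CategoryTheory CategoryTheory.Limits AlgebraicGeometry TopologicalSpace Opposite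

noncomputable section

namespace Groth.Agent.AlgFS69

section Generic

variable {X Y : Scheme.{u}} (f : Y ⟶ X) {M : X.Modules}

/-- The tensored structure map is the unit. -/
theorem whiskR_strMap_tm (U : X.Opens) (c : Γ(X, U)) (m : Γ(M, U)) :
    ((Scheme.Modules.pushforward f).map (EGA73.tensUnitLeft ((Scheme.Modules.pullback f).obj M)).hom).app U
      ((ValVan29.projHom f (Coh.structureModule Y) M).app U
        ((Var76.Reg.whiskR (strMap f) M).app U (Amp73.tm (Coh.structureModule X) M c m))) =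
      f.app U c • Amp73.pullS f M U m := by
  rw [Var76.Reg.whiskR_tm]
  have h := (ValVan29.projPairing f (Coh.structureModule Y) M).lift_tmul U ((strMap f).app U c) m
  refine (congrArg (((Scheme.Modules.pushforward f).map
    (EGA73.tensUnitLeft ((Scheme.Modules.pullback f).obj M)).hom).app U) h).trans ?_
  exact Var76.Reg.tensUnitLeft_tm ((Scheme.Modules.pullback f).obj M) (U := f ⁻¹ᵁ U) (f.app U c) (Amp73.pullS f M U m)

theorem pullS_surjective_of_whiskR_surjective (hM : PicF.IsInvertible M)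
    (h : Function.Surjective ((Var76.Reg.whiskR (strMap f) M).app ⊤)) :
    Function.Surjective (fun m : Γ(M, ⊤) =>
      (show Γ((Scheme.Modules.pullback f).obj M, ⊤) from Amp73.pullS f M ⊤ m)) := by
  intro z
  haveI := ValVan29.isIso_projHom f (Coh.structureModule Y) M hM
  obtain ⟨y, hy⟩ := (ConcreteCategory.bijective_of_isIso (((Scheme.Modules.pushforward f).map
    (EGA73.tensUnitLeft ((Scheme.Modules.pullback f).obj M)).hom).app ⊤)).2 z
  obtain ⟨x, rfl⟩ := (ConcreteCategory.bijective_of_isIso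
    ((ValVan29.projHom f (Coh.structureModule Y) M).app ⊤)).2 y
  obtain ⟨t, rfl⟩ := h x
  let m : Γ(M, ⊤) := (EGA73.tensUnitLeft M).hom.app ⊤ t
  have ht1 : Amp73.tm (Coh.structureModule X) M (1 : Γ(X, ⊤)) m = t := by
    refine ((ConcreteCategory.bijective_of_isIso ((EGA73.tensUnitLeft M).hom.app ⊤)).1 ?_)
    rw [Var76.Reg.tensUnitLeft_tm, one_smul]
  refine ⟨m, ?_⟩
  rw [← ht1, whiskR_strMap_tm f (M := M) ⊤ 1 m, map_one, one_smul] at hy
  exact hy

end Generic

namespace ThickSys

variable {A : Type u} [CommRing A] [IsNoetherianRing A] {I : Ideal A} (S : ThickSys I)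
  (L : (n : ℕ) → (S.X n).Modules) (hL : ∀ n, PicF.IsInvertible (L n))
  (φ : ∀ n, (Scheme.Modules.pullback (S.i n)).obj (L (n + 1)) ≅ L n)

/-- The reduction of `L n`. -/
def jIso : (n : ℕ) → ((Scheme.Modules.pullback (S.j n)).obj (L n) ≅ L 0)
  | 0 => (Scheme.Modules.pullbackId (S.X 0)).app (L 0)
  | n + 1 => ((Scheme.Modules.pullbackComp (S.j n) (S.i n)).app (L (n + 1))).symm ≪≫
      (Scheme.Modules.pullback (S.j n)).mapIso (φ n) ≪≫ jIso n

set_option maxHeartbeats 1600000 in
theorem pullS_top_surjective (n : ℕ) {M : (S.X (n + 1)).Modules} (hM : PicF.IsInvertible M)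
    (h : Subsingleton (Coh.HH (S.X 0) (CohB1.tensorMod (S.K n) ((Scheme.Modules.pullback (S.j (n + 1))).obj M)) 1)) :
    Function.Surjective (fun m : Γ(M, ⊤) =>
      (show Γ((Scheme.Modules.pullback (S.i n)).obj M, ⊤) from Amp73.pullS (S.i n) M ⊤ m)) := by
  haveI := S.isNoetherian 0
  haveI : (CohB1.tensorMod (S.K n) ((Scheme.Modules.pullback (S.j (n + 1))).obj M)).IsQuasicoherent :=
    (Amp73.isCoh_tensorMod (S.isCoh_K n) (Amp73.isCoh_of_isInvertible (Amp73.isInvertible_pullback _ hM))).1
  let T := ShortComplex.mk (kernel.ι (S.ρ n)) (S.ρ n) (kernel.condition _)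
  have hT : T.ShortExact := { exact := ShortComplex.exact_of_f_is_kernel _ (kernelIsKernel _) }
  obtain ⟨w, hTM⟩ := Var76.Reg.shortExact_whiskR hM hT
  have hvan : Subsingleton (Coh.HH (S.X (n + 1)) (CohB1.tensorMod (kernel (S.ρ n)) M) 1) := by
    have e₁ : (Scheme.Modules.pushforward (S.j (n + 1))).obj
        (CohB1.tensorMod (S.K n) ((Scheme.Modules.pullback (S.j (n + 1))).obj M)) ≅
        CohB1.tensorMod (kernel (S.ρ n)) M :=
      (ValVan29.projIso (S.j (n + 1)) (S.K n) M hM).symm ≪≫ EGA73.tensIso (S.uK n).symm (Iso.refl M)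
    refine ValVan29.subsingleton_hh_of_iso e₁ 1 ?_
    obtain ⟨e⟩ := Coh69.nonempty_hh_push (S.j (n + 1))
      (CohB1.tensorMod (S.K n) ((Scheme.Modules.pullback (S.j (n + 1))).obj M)) 1
    exact e.symm.toEquiv.subsingleton
  have hsurj := GE14.app_top_surjective_of_vanishing A _ hTM hvan
  exact pullS_surjective_of_whiskR_surjective (S.i n) hM hsurj

include φ hL in
/-- For a large power the sections lift along all the thickenings. -/
theorem eventually_lift (ha : CohB1.IsAmple (L 0)) : ∃ d₀ : ℕ, ∀ d, d₀ ≤ d → ∀ n,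
    Function.Surjective (fun m : Γ(CohB1.tensorPow (L (n + 1)) d, ⊤) =>
      (show Γ((Scheme.Modules.pullback (S.i n)).obj (CohB1.tensorPow (L (n + 1)) d), ⊤) from
        Amp73.pullS (S.i n) (CohB1.tensorPow (L (n + 1)) d) ⊤ m)) := by
  classical
  obtain ⟨r, f, hf⟩ := Submodule.fg_iff_exists_fin_generating_family.1 (IsNoetherian.noetherian I)
  haveI := S.isNoetherian 0
  haveI := S.isProper_g_zero
  obtain ⟨d₀, hd₀⟩ := GE14.exists_uniform_vanishing (GE14.tw (L 0)) (GE14.shortExact_map_tw ha.1)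
    (fun M hM => RB70.exists_vanishing_ample (S.g 0) ha M hM) r (S.fam f hf)
  refine ⟨d₀, fun d hd n => S.pullS_top_surjective n (EGA73.isInvertible_tensorPow (hL _) d) ?_⟩
  exact ValVan29.subsingleton_hh_of_iso (EGA73.tensIso (Iso.refl _)
    (Amp73.pullPowIso (S.j (n + 1)) (hL _) d ≪≫ Amp73.powIso (S.jIso L φ (n + 1)) d).symm) 1
    (hd₀ d hd n 1 le_rfl)

end ThickSys

end Groth.Agent.AlgFS69
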