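import Groth.Agent.AlgFS69.Morph
import Groth.Agent.An92.FSch.Basic
import Mathlib.AlgebraicGeometry.Morphisms.Proper

/-! Systems of infinitesimal thickenings over the quotients of a ring. -/

set_option autoImplicit false
set_option linter.style.haveILetI false
set_option backward.isDefEq.respectTransparency.types false

universe u

open CategoryTheory CategoryTheory.Limits AlgebraicGeometry TopologicalSpace Opposite

noncomputable section

namespace Groth.Agent.AlgFS69

variable {A : Type u} [CommRing A]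

/-- Schemes over `A / I^(n+1)`, each the reduction of the next, with proper first term. -/
structure ThickSys (I : Ideal A) where
  X : ℕ → Scheme.{u}
  p : (n : ℕ) → (X n ⟶ Spec (CommRingCat.of (A ⧸ I ^ (n + 1))))
  i : (n : ℕ) → (X n ⟶ X (n + 1))
  cart : ∀ n, IsPullback (i n) (p n) (p (n + 1)) (CohB1.specQuotTrans I n)
  proper : IsProper (p 0)

namespace ThickSys

variable {I : Ideal A} (S : ThickSys I)

/-- The structure map to `Spec A`. -/
def g (n : ℕ) : S.X n ⟶ Spec (CommRingCat.of A) := S.p n ≫ CohB1.specQuot I n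

instance overBase (n : ℕ) : (S.X n).Over (Spec (CommRingCat.of A)) := ⟨S.g n⟩

@[reassoc]
theorem i_g (n : ℕ) : S.i n ≫ S.g (n + 1) = S.g n := by
  rw [g, ← Category.assoc, (S.cart n).w, Category.assoc, CohB1.specQuotTrans_specQuot]
  rfl

theorem isClosedImmersion_specQuot (n : ℕ) : IsClosedImmersion (CohB1.specQuot I n) :=
  IsClosedImmersion.spec_of_surjective _ Ideal.Quotient.mk_surjective

theorem isPullback_specQuotTrans (n : ℕ) : IsPullback (CohB1.specQuotTrans I n) (𝟙 _)
    (CohB1.specQuot I (n + 1)) (CohB1.specQuot I n) := by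
  haveI := isClosedImmersion_specQuot (I := I) (n + 1)
  refine IsPullback.of_isLimit' ⟨by rw [CohB1.specQuotTrans_specQuot, Category.id_comp]⟩
    (PullbackCone.IsLimit.mk _ (fun s => s.snd) (fun s => ?_) (fun s => Category.comp_id _)
      fun s m _ hm => (Category.comp_id m).symm.trans hm)
  rw [← cancel_mono (CohB1.specQuot I (n + 1)), Category.assoc, CohB1.specQuotTrans_specQuot]
  exact s.condition.symm

theorem cartBase (n : ℕ) : IsPullback (S.i n) (S.p n) (S.g (n + 1)) (CohB1.specQuot I n) := by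
  have h := (S.cart n).paste_vert (isPullback_specQuotTrans (I := I) n)
  rwa [Category.comp_id] at h

/-- The inclusion of the first term. -/
def j : (n : ℕ) → (S.X 0 ⟶ S.X n)
  | 0 => 𝟙 _
  | n + 1 => j n ≫ S.i n

@[simp] theorem j_zero : S.j 0 = 𝟙 _ := rfl

theorem j_succ (n : ℕ) : S.j (n + 1) = S.j n ≫ S.i n := rfl

theorem j_g (n : ℕ) : S.j n ≫ S.g n = S.g 0 := by
  induction n with
  | zero => exact Category.id_comp _
  | succ n ih => rw [j_succ, Category.assoc, i_g, ih]

theorem isPullback_id_base (n : ℕ) : IsPullback (𝟙 (S.X n)) (S.p n) (S.g n) (CohB1.specQuot I n) := by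
  haveI := isClosedImmersion_specQuot (I := I) n
  refine IsPullback.of_isLimit' ⟨Category.id_comp _⟩
    (PullbackCone.IsLimit.mk _ (fun s => s.fst) (fun s => Category.comp_id _) (fun s => ?_)
      fun s m hm _ => (Category.comp_id m).symm.trans hm)
  rw [← cancel_mono (CohB1.specQuot I n), Category.assoc]
  exact s.condition

theorem jsq (n : ℕ) : IsPullback (S.j n) (S.p 0) (S.g n) (CohB1.specQuot I 0) := by
  induction n with
  | zero => exact S.isPullback_id_base 0
  | succ n ih =>
    let t : Spec (CommRingCat.of (A ⧸ I ^ 1)) ⟶ Spec (CommRingCat.of (A ⧸ I ^ (n + 1))) :=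
      Spec.map (CommRingCat.ofHom (Ideal.Quotient.factor (Ideal.pow_le_pow_right (Nat.le_add_left 1 n))))
    have ht : t ≫ CohB1.specQuot I n = CohB1.specQuot I 0 := by
      simp only [t, CohB1.specQuot, ← Spec.map_comp, ← CommRingCat.ofHom_comp]
      rfl
    have hw : S.j (n + 1) ≫ S.g (n + 1) = S.p 0 ≫ CohB1.specQuot I 0 := S.j_g (n + 1)
    have hl : ∀ s : PullbackCone (S.g (n + 1)) (CohB1.specQuot I 0),
        (S.cartBase n).lift s.fst (s.snd ≫ t) (by rw [s.condition, Category.assoc, ht]) ≫ S.g n =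
          s.snd ≫ CohB1.specQuot I 0 := fun s => by
      change _ ≫ (S.p n ≫ CohB1.specQuot I n) = _
      rw [← Category.assoc, (S.cartBase n).lift_snd, Category.assoc, ht]
    refine IsPullback.of_isLimit' ⟨hw⟩
      (PullbackCone.IsLimit.mk _ (fun s => ih.lift _ s.snd (hl s)) (fun s => ?_) (fun s => ih.lift_snd _ _ _)
        fun s m hm hm' => ?_)
    · rw [j_succ, ← Category.assoc, ih.lift_fst, (S.cartBase n).lift_fst]
    · refine ih.hom_ext ?_ (hm'.trans (ih.lift_snd _ _ _).symm)
      rw [ih.lift_fst]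
      refine (S.cartBase n).hom_ext ?_ ?_
      · rw [(S.cartBase n).lift_fst, Category.assoc]
        exact hm
      · rw [(S.cartBase n).lift_snd, ← hm', Category.assoc, Category.assoc]
        refine congrArg (m ≫ ·) ?_
        haveI := isClosedImmersion_specQuot (I := I) n
        rw [← cancel_mono (CohB1.specQuot I n), Category.assoc, Category.assoc, ht]
        exact S.j_g n

instance isClosedImmersion_i (n : ℕ) : IsClosedImmersion (S.i n) :=
  MorphismProperty.of_isPullback (P := @IsClosedImmersion) (S.cartBase n).flip (isClosedImmersion_specQuot n)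

instance isClosedImmersion_j (n : ℕ) : IsClosedImmersion (S.j n) :=
  MorphismProperty.of_isPullback (P := @IsClosedImmersion) (S.jsq n).flip (isClosedImmersion_specQuot 0)

theorem surjective_i (n : ℕ) : Surjective (S.i n) := by
  refine MorphismProperty.of_isPullback (P := @Surjective) (S.cart n).flip ⟨fun x => ?_⟩
  have hle : I ^ (n + 2) ≤ I ^ (n + 1) := Ideal.pow_le_pow_right (Nat.le_succ (n + 1))
  obtain ⟨y, hy⟩ : x ∈ Set.range (PrimeSpectrum.comap (Ideal.Quotient.factor hle)) := by
    rw [_root_.range_comap_of_surjective _ _ (Ideal.Quotient.factor_surjective hle)]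
    refine (PrimeSpectrum.mem_zeroLocus x _).2 fun a ha => x.isPrime.mem_of_pow_mem 2 ?_
    obtain ⟨b, rfl⟩ := Ideal.Quotient.mk_surjective a
    have hb : b ∈ I ^ (n + 1) := by
      simpa [Ideal.Quotient.factor_mk, Ideal.Quotient.eq_zero_iff_mem] using ha
    rw [← map_pow, show (Ideal.Quotient.mk (I ^ (n + 2))) (b ^ 2) = 0 from
      Ideal.Quotient.eq_zero_iff_mem.2 (Ideal.pow_le_pow_right (by omega)
        (show b ^ 2 ∈ I ^ ((n + 1) * 2) by rw [pow_mul]; exact Ideal.pow_mem_pow hb 2))]
    exact zero_mem _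
  exact ⟨y, hy⟩

theorem surjective_j : (n : ℕ) → Surjective (S.j n)
  | 0 => inferInstanceAs (Surjective (𝟙 _))
  | n + 1 => by
    haveI := surjective_j n
    haveI := S.surjective_i n
    rw [j_succ]
    infer_instance

theorem ker_eq_of_sq {m k : ℕ} {f : S.X m ⟶ S.X k} {r : ℕ} {q : S.X m ⟶ _}
    (h : IsPullback f q (S.g k) (CohB1.specQuot I r)) :
    f.ker = (CohB1.thickι (S.g k) I r).ker := by
  rw [← h.isoPullback_hom_fst, Scheme.Hom.ker_comp_of_isIso]
  rfl

theorem ideal_ker_i (n : ℕ) (V : (S.X (n + 1)).affineOpens) :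
    (S.i n).ker.ideal V = (I ^ (n + 1)).map (Formal27.gi A (S.X (n + 1)) V.1) := by
  rw [S.ker_eq_of_sq (S.cartBase n)]
  exact ideal_ker_thickι (X := S.X (n + 1)) I n V

theorem ideal_ker_j (n : ℕ) (V : (S.X n).affineOpens) :
    (S.j n).ker.ideal V = I.map (Formal27.gi A (S.X n) V.1) := by
  rw [S.ker_eq_of_sq (S.jsq n)]
  exact (ideal_ker_thickι (X := S.X n) I 0 V).trans (by rw [zero_add, pow_one])

theorem map_gi_eq_bot (n : ℕ) (V : (S.X n).affineOpens) :
    (I ^ (n + 1)).map (Formal27.gi A (S.X n) V.1) = ⊥ := by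
  refine (ideal_ker_thickι (X := S.X n) I n V).symm.trans ?_
  change (CohB1.thickι (S.g n) I n).ker.ideal V = ⊥
  rw [← S.ker_eq_of_sq (S.isPullback_id_base n), Scheme.Hom.ker_apply, Scheme.Hom.id_app]
  exact RingHom.ker_eq_bot_iff_eq_zero _ |>.2 fun x hx => hx

theorem gi_eq_zero (n : ℕ) (V : (S.X n).affineOpens) {a : A} (ha : a ∈ I ^ (n + 1)) :
    Formal27.gi A (S.X n) V.1 a = 0 :=
  Ideal.mem_bot.1 (S.map_gi_eq_bot n V ▸ Ideal.mem_map_of_mem _ ha)

theorem isProper_g_zero : IsProper (S.g 0) := by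
  haveI := S.proper
  haveI := isClosedImmersion_specQuot (I := I) 0
  rw [g]; infer_instance

theorem compactSpace (n : ℕ) : CompactSpace (S.X n) := by
  haveI := S.isProper_g_zero
  haveI : CompactSpace (S.X 0) := QuasiCompact.compactSpace_of_compactSpace (S.g 0)
  refine isCompact_univ_iff.1 ?_
  rw [← (S.surjective_j n).surj.range_eq]
  exact isCompact_range (S.j n).continuous

variable [IsNoetherianRing A]

theorem isLocallyNoetherian (n : ℕ) : IsLocallyNoetherian (S.X n) := by
  haveI := S.isProper_g_zero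
  haveI : IsLocallyNoetherian (S.X 0) := LocallyOfFiniteType.isLocallyNoetherian (S.g 0)
  refine An92.FSch.isLocallyNoetherian_of_thickening (S.j n) (N := n + 1) ?_ fun x => ?_
  · refine Scheme.IdealSheafData.ext (funext fun V => ?_)
    rw [Scheme.IdealSheafData.ideal_pow, Pi.pow_apply, S.ideal_ker_j, ← Ideal.map_pow, S.map_gi_eq_bot,
      Scheme.IdealSheafData.ideal_bot]
    rfl
  · obtain ⟨U, hU, hxU, -⟩ := exists_isAffineOpen_mem_and_subset (U := (⊤ : (S.X n).Opens)) (x := x) trivial
    refine ⟨⟨U, hU⟩, hxU, fun V _ => ?_⟩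
    rw [S.ideal_ker_j]
    exact Ideal.FG.map (IsNoetherian.noetherian I) _

theorem isNoetherian (n : ℕ) : AlgebraicGeometry.IsNoetherian (S.X n) := by
  haveI := S.isLocallyNoetherian n
  haveI := S.compactSpace n
  exact ⟨⟩

end ThickSys

end Groth.Agent.AlgFS69
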